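import Groth.Agent.ResPerf7.Partial
import Groth.Agent.KFlatLib.Perfect.Top
import Groth.Agent.KFlatLib.Perfect.Amplitude
import Groth.Agent.KFlatLib.Scheme.TildePC
import Groth.Agent.KFlatLib.Perfect.Corollaries
import Groth.Agent.KFlatLib.Scheme.AffinePush
import Groth.Agent.QCoh.SerreFT
import Groth.Agent.QCoh.LocFree
import Groth.Agent.RGLib.SqZeroHom
import Groth.Prelude.Def_PerfAux

/-! Strictly perfect complexes on schemes with the resolution property. -/

set_option autoImplicit false
set_option linter.style.haveILetI false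
set_option backward.isDefEq.respectTransparency false
set_option backward.isDefEq.respectTransparency.types false
set_option maxHeartbeats 1000000

universe u

open CategoryTheory CategoryTheory.Limits AlgebraicGeometry Pretriangulated HomologicalComplex
open scoped ZeroObject

attribute [local instance] HasDerivedCategory.standard

noncomputable section

namespace Groth.Agent.ResPerf7

open Groth.Agent.KFlatLib Groth.Agent.QCoh Groth.Agent.QCoh.SerreFT Groth.Agent.PerfGen7.LeftRes

variable {X : Scheme.{u}}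

/-- A bundle mapping to `Z` which still surjects onto a quotient of finite type. -/
theorem exists_bundle_cover [CompactSpace X] [QuasiSeparatedSpace X] (hX : PerfAux.HasResolutionProperty X)
    {Z H : X.Modules} (hZ : Coh.IsQCoh Z) (hH : Coh.IsQCoh H) (hHt : CohB1.IsFT H) (π : Z ⟶ H) [Epi π] :
    ∃ (P : X.Modules) (g : P ⟶ Z), FlatMod.IsFinLocFree P ∧ Epi (g ≫ π) := by
  obtain ⟨F, hF⟩ := isCompact_univ.elim_finite_subcover (fun V : X.affineOpens => (V.1 : Set X))
    (fun V => V.1.2) fun y _ => by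
      obtain ⟨V, hV, hyV⟩ := exists_affine_mem y
      exact Set.mem_iUnion.2 ⟨⟨V, hV⟩, hyV⟩
  let W : F → X.Opens := fun k => k.1.1
  have hW : ∀ k, IsAffineOpen (W k) := fun k => k.1.2
  choose T hT using fun k => (finite_of_isFT hH hHt (hW k)).fg_top
  choose lf hlf using fun m : (Σ k : F, T k) => app_surjective_of_epi hZ hH π (hW m.1) m.2.1
  obtain ⟨A, j, -, hA, hAt, hs⟩ := exists_ft_containing hZ (fun m : (Σ k : F, T k) => W m.1)
    (fun m => hW m.1) lf
  obtain ⟨P, p, hP, hp⟩ := hX A hA hAt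
  haveI := hp
  refine ⟨P, p ≫ j, hP, ?_⟩
  let ψ := (p ≫ j) ≫ π
  have hQ := isQCoh_cokernel (isQCoh_of_isFinLocFree hP) hH ψ
  refine Preadditive.epi_of_cokernel_zero
    ((isZero_of_cover hQ W hW ?_ fun k => subsingleton_of_forall_eq 0 fun q => ?_).eq_of_tgt _ _)
  · intro x
    obtain ⟨V, hV, hxV⟩ := Set.mem_iUnion₂.1 (hF (Set.mem_univ x))
    exact ⟨⟨V, hV⟩, hxV⟩
  · obtain ⟨m, rfl⟩ := app_surjective_of_epi hH hQ (cokernel.π ψ) (hW k) q
    show appLin (cokernel.π ψ) (W k) m = 0
    have hm : m ∈ Submodule.span Γ(X, W k) (T k : Set Γ(H, W k)) := by rw [hT k]; trivial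
    refine (Submodule.span_le (p := LinearMap.ker (appLin (cokernel.π ψ) (W k)))).2 ?_ hm
    intro t ht
    obtain ⟨w, hw⟩ := hs ⟨k, ⟨t, ht⟩⟩
    obtain ⟨e, he⟩ := app_surjective_of_epi (isQCoh_of_isFinLocFree hP) hA p (hW k) w
    show (cokernel.π ψ).app (W k) t = 0
    have h : ψ.app (W k) e = t := by
      show π.app (W k) (j.app (W k) (p.app (W k) e)) = t
      rw [he, hw]
      exact hlf ⟨k, ⟨t, ht⟩⟩
    rw [← h]
    exact congr(($(cokernel.condition ψ)).app (W k) e)

/-- A strictly perfect complex is perfect. -/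
theorem locSP_toD {E : CochainComplex X.Modules ℤ} (hE : DCoh.IsStrictlyPerfect E) :
    LocSP (DCoh.toD X E) := fun x =>
  ⟨_, (⊤ : X.Opens).ι, inferInstance, ⟨⟨x, trivial⟩, rfl⟩, (rCx (⊤ : X.Opens).ι).obj E,
    isStrictlyPerfect_restrict _ hE, ⟨((rhoQ (⊤ : X.Opens).ι).app E).symm⟩⟩

/-- Uniform local amplitude of a perfect object. -/
theorem exists_uniform_rep [CompactSpace X] {K : DCoh.D X} (hK : DCoh.IsPerfect K) :
    ∃ a b : ℤ, (∀ x : X, ∃ (U : Scheme.{u}) (j : U ⟶ X) (_ : IsOpenImmersion j), x ∈ Set.range j.base ∧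
      ∃ P : CochainComplex U.Modules ℤ, DCoh.IsStrictlyPerfect P ∧ DCoh.VanishesOutside P a b ∧
        Nonempty (DerivedCategory.Q.obj P ≅ (rho j).obj K)) := by
  have h := (isPerfect_iff K).1 hK
  choose U j hj hx P hP he using h
  choose a b hab using fun x => (hP x).1
  obtain ⟨t, ht⟩ := isCompact_univ.elim_finite_subcover (fun x => (Set.range (j x).base))
    (fun x => (haveI := hj x; (j x).isOpenEmbedding.isOpen_range)) fun x _ => Set.mem_iUnion.2 ⟨x, hx x⟩
  obtain ⟨A, hA⟩ := (t.image a).bddBelow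
  obtain ⟨B, hB⟩ := (t.image b).bddAbove
  refine ⟨A, B, fun x => ?_⟩
  obtain ⟨y, hy, hxy⟩ := Set.mem_iUnion₂.1 (ht (Set.mem_univ x))
  have h1 : A ≤ a y := hA (Finset.mem_coe.2 (Finset.mem_image_of_mem a hy))
  have h2 : b y ≤ B := hB (Finset.mem_coe.2 (Finset.mem_image_of_mem b hy))
  exact ⟨U y, j y, hj y, hxy, P y, hP y, fun i hi => hab y i (by omega), he y⟩

/-- The cohomology sheaves of a perfect object vanish above its amplitude. -/
theorem isZero_hd_of_reps {K : DCoh.D X} {a b : ℤ}
    (h : ∀ x : X, ∃ (U : Scheme.{u}) (j : U ⟶ X) (_ : IsOpenImmersion j), x ∈ Set.range j.base ∧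
      ∃ P : CochainComplex U.Modules ℤ, DCoh.IsStrictlyPerfect P ∧ DCoh.VanishesOutside P a b ∧
        Nonempty (DerivedCategory.Q.obj P ≅ (rho j).obj K)) (i : ℤ) (hi : i < a ∨ b < i) :
    IsZero (DCoh.HD K i) :=
  isZero_of_stalk _ fun x => by
    obtain ⟨U, j, _, ⟨w, rfl⟩, P, -, hP, ⟨e⟩⟩ := h x
    refine isZero_stalk_of_restrict j w ((DerSch.stalkFunctor U w).map_isZero ?_)
    exact (ShortComplex.isZero_homology_of_isZero_X₂ _ (hP i hi)).of_iso ((hdRhoIso j K i).symm ≪≫
      ((DerivedCategory.homologyFunctor U.Modules i).mapIso e).symm ≪≫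
      (DerivedCategory.homologyFunctorFactors U.Modules i).app P)

lemma isFinLocFree_biprod' {M N : X.Modules} (hM : FlatMod.IsFinLocFree M) (hN : FlatMod.IsFinLocFree N) :
    FlatMod.IsFinLocFree (M ⊞ N) := isFinLocFree_biprod hM hN

section Step

variable {E F : CochainComplex X.Modules ℤ} (φ : E ⟶ F) (m : ℤ) {P : X.Modules}
  (g : P ⟶ (CochainComplex.mappingCone φ).cycles m)

/-- The map of a shifted module into the cone. -/
def stepV : (HomologicalComplex.single X.Modules (ComplexShape.up ℤ) m).obj P ⟶ CochainComplex.mappingCone φ :=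
  HomologicalComplex.mkHomFromSingle (g ≫ (CochainComplex.mappingCone φ).iCycles m)
    (fun k _ => by rw [Category.assoc, HomologicalComplex.iCycles_d, comp_zero])

lemma epi_stepV [Epi (g ≫ (CochainComplex.mappingCone φ).homologyπ m)] :
    Epi (homologyMap (stepV φ m g) m) := by
  let S := (HomologicalComplex.single X.Modules (ComplexShape.up ℤ) m).obj P
  let l : P ⟶ S.cycles m := S.liftCycles (HomologicalComplex.singleObjXSelf (ComplexShape.up ℤ) m P).inv
    (m + 1) (by simp) (by simp [S])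
  have hl : l ≫ S.homologyπ m ≫ homologyMap (stepV φ m g) m = g ≫ (CochainComplex.mappingCone φ).homologyπ m := by
    rw [HomologicalComplex.homologyπ_naturality, ← Category.assoc]
    congr 1
    rw [← cancel_mono ((CochainComplex.mappingCone φ).iCycles m)]
    simp [l, S, stepV]
  haveI : Epi ((l ≫ S.homologyπ m) ≫ homologyMap (stepV φ m g) m) := by
    rw [Category.assoc, hl]
    infer_instance
  exact epi_of_epi (l ≫ S.homologyπ m) _

lemma isStrictlyPerfect_step (hP : FlatMod.IsFinLocFree P) (hE : DCoh.IsStrictlyPerfect E) :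
    DCoh.IsStrictlyPerfect (R φ (stepV φ m g)) := by
  obtain ⟨⟨a, b, hab⟩, hf⟩ := hE
  refine ⟨⟨min a m, max b m, fun i hi => ?_⟩, fun i => ?_⟩
  · show IsZero (E.X i ⊞ ((HomologicalComplex.single X.Modules (ComplexShape.up ℤ) m).obj P).X i)
    rw [biprod_isZero_iff]
    exact ⟨hab i (by omega), HomologicalComplex.isZero_single_obj_X _ m P i (by omega)⟩
  · refine isFinLocFree_biprod' (hf i) ?_
    rcases eq_or_ne i m with h | h
    · subst h
      exact H23.PullPush.isFinLocFree_of_iso (HomologicalComplex.singleObjXSelf _ i P).symm hP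
    · exact isFinLocFree_of_isZero (HomologicalComplex.isZero_single_obj_X _ m P i h)

lemma isZero_step {i : ℤ} (hi : i < m) (h : IsZero (E.X i)) : IsZero ((R φ (stepV φ m g)).X i) := by
  show IsZero (E.X i ⊞ ((HomologicalComplex.single X.Modules (ComplexShape.up ℤ) m).obj P).X i)
  rw [biprod_isZero_iff]
  exact ⟨h, HomologicalComplex.isZero_single_obj_X _ m P i (by omega)⟩

lemma isPcMap_step [Epi (g ≫ (CochainComplex.mappingCone φ).homologyπ m)]
    (hφ : ∀ i, m < i → IsZero ((CochainComplex.mappingCone φ).homology i)) :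
    IsPcMap m (DerivedCategory.Q.map (Rπ φ (stepV φ m g))) := by
  have hs : ∀ i, i ≠ m →
      IsZero (((HomologicalComplex.single X.Modules (ComplexShape.up ℤ) m).obj P).homology i) := fun i hi =>
    ShortComplex.isZero_homology_of_isZero_X₂ _ (HomologicalComplex.isZero_single_obj_X (ComplexShape.up ℤ) m P i hi)
  have hepi : ∀ i, m ≤ i → Epi (homologyMap (stepV φ m g) i) := fun i hi => by
    rcases eq_or_lt_of_le hi with h | h
    · subst h; exact epi_stepV φ m g
    · exact ⟨fun _ _ _ => (hφ i h).eq_of_src _ _⟩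
  refine isPcMap_of_homologyMap m _ (fun i hi => ?_) ?_
  · haveI := hepi i hi.le
    haveI := hepi (i - 1) (by omega)
    haveI : Mono (homologyMap (stepV φ m g) i) := ⟨fun _ _ _ => (hs i (by omega)).eq_of_tgt _ _⟩
    haveI := epi_homologyMap_of φ (stepV φ m g) i
    haveI := mono_homologyMap_of φ (stepV φ m g) i
    exact isIso_of_mono_of_epi _
  · haveI := hepi m le_rfl
    exact epi_homologyMap_of φ (stepV φ m g) m

end Step

lemma locPC_of_locSP {K : DCoh.D X} (h : LocSP K) (m : ℤ) : LocPC m K := LocSP.locPC h m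

theorem isQCoh_cone {E F : CochainComplex X.Modules ℤ} (φ : E ⟶ F) (hE : ∀ i, Coh.IsQCoh (E.X i))
    (hF : ∀ i, Coh.IsQCoh (F.X i)) (i : ℤ) : Coh.IsQCoh ((CochainComplex.mappingCone φ).X i) :=
  isQCoh_of_iso (HomologicalComplex.homotopyCofiber.XIsoBiprod φ i (i + 1) rfl).symm
    (RGLib.SqZeroHom.isQCoh_biprod (hE _) (hF _))

theorem locSP_cone {E F : CochainComplex X.Modules ℤ} (φ : E ⟶ F) (hE : DCoh.IsStrictlyPerfect E)
    (hF : DCoh.IsPerfect (DCoh.toD X F)) : LocSP (DCoh.toD X (CochainComplex.mappingCone φ)) :=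
  locSP_obj₃ (DerivedCategory.Q.mapTriangle.obj (CochainComplex.mappingCone.triangle φ))
    ((DerivedCategory.mem_distTriang_iff _).2 ⟨_, _, φ, ⟨Iso.refl _⟩⟩)
    (locSP_toD hE) ((isPerfect_iff _).1 hF)

/-- The step where the remaining cohomology is locally free. -/
theorem isFinLocFree_homology_cone {E F : CochainComplex X.Modules ℤ} (φ : E ⟶ F) (m : ℤ)
    (hE : DCoh.IsStrictlyPerfect E) (hEm : ∀ i, i ≤ m → IsZero (E.X i))
    {a b : ℤ} (hma : m ≤ a)
    (h : ∀ x : X, ∃ (U : Scheme.{u}) (j : U ⟶ X) (_ : IsOpenImmersion j), x ∈ Set.range j.base ∧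
      ∃ P : CochainComplex U.Modules ℤ, DCoh.IsStrictlyPerfect P ∧ DCoh.VanishesOutside P a b ∧
        Nonempty (DerivedCategory.Q.obj P ≅ (rho j).obj (DCoh.toD X F)))
    (hφ : ∀ i, m < i → IsZero ((CochainComplex.mappingCone φ).homology i)) :
    FlatMod.IsFinLocFree ((CochainComplex.mappingCone φ).homology m) :=
  isFinLocFree_of_restrict fun x => by
    obtain ⟨U, j, _, ⟨w, rfl⟩, P, hP, hPab, ⟨e⟩⟩ := h x
    let C := CochainComplex.mappingCone φ
    obtain ⟨V, β, hw, hβ⟩ := exists_chain_rep (isStrictlyPerfect_restrict j hE)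
      (((rhoQ j).app E).inv ≫ (rho j).map (DerivedCategory.Q.map φ) ≫ e.inv) w
    let k := V.ι ≫ j
    let T := DerivedCategory.Q.mapTriangle.obj (CochainComplex.mappingCone.triangle φ)
    have hT : T ∈ distTriang (DCoh.D X) :=
      (DerivedCategory.mem_distTriang_iff _).2 ⟨_, _, φ, ⟨Iso.refl _⟩⟩
    let T' := (rho V.ι).mapTriangle.obj ((rho j).mapTriangle.obj T)
    have hT' : T' ∈ distTriang _ := (rho V.ι).map_distinguished _ ((rho j).map_distinguished T hT)
    let S := DerivedCategory.Q.mapTriangle.obj (CochainComplex.mappingCone.triangle β)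
    have hS : S ∈ distTriang _ := (DerivedCategory.mem_distTriang_iff _).2 ⟨_, _, β, ⟨Iso.refl _⟩⟩
    let eS : S ≅ T' := isoTriangleOfIso₁₂ S T' hS hT'
      (((rhoQ V.ι).app _).symm ≪≫ (rho V.ι).mapIso ((rhoQ j).app E).symm)
      (((rhoQ V.ι).app _).symm ≪≫ (rho V.ι).mapIso e) (by
        change DerivedCategory.Q.map β ≫ (rhoQ V.ι).inv.app _ ≫ (rho V.ι).map e.hom =
          ((rhoQ V.ι).inv.app _ ≫ (rho V.ι).map ((rhoQ j).inv.app E)) ≫
            (rho V.ι).map ((rho j).map (DerivedCategory.Q.map φ))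
        have h' := (rhoQ V.ι).inv.app _ ≫= (hβ =≫ (rho V.ι).map e.hom)
        simp only [Functor.map_comp, Category.assoc] at h'
        simp only [Category.assoc]
        rw [← Functor.map_comp_assoc] at h'
        simp only [← Functor.map_comp, Category.assoc, Iso.inv_hom_id, Category.comp_id] at h'
        simp only [← Functor.map_comp]
        refine Eq.trans ?_ (Eq.trans h'.symm ?_)
        · simp [rhoQ]
        · simp [← Functor.map_comp])
    have hc : DCoh.IsStrictlyPerfect (CochainComplex.mappingCone β) :=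
      isStrictlyPerfect_cone β (isStrictlyPerfect_restrict _ (isStrictlyPerfect_restrict j hE))
        (isStrictlyPerfect_restrict _ hP)
    have hlo : ∀ i, i < m → IsZero ((CochainComplex.mappingCone β).X i) := fun i hi => by
      refine IsZero.of_iso ?_ (HomologicalComplex.homotopyCofiber.XIsoBiprod β i (i + 1) rfl)
      rw [biprod_isZero_iff]
      exact ⟨(Scheme.Modules.restrictFunctor V.ι).map_isZero
          ((Scheme.Modules.restrictFunctor j).map_isZero (hEm (i + 1) (by omega))),
        (Scheme.Modules.restrictFunctor V.ι).map_isZero (hPab i (by omega))⟩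
    let eC : DerivedCategory.Q.obj (CochainComplex.mappingCone β) ≅
        (rho V.ι).obj ((rho j).obj (DCoh.toD X C)) := Triangle.π₃.mapIso eS
    have hh : ∀ i, (CochainComplex.mappingCone β).homology i ≅ ((C.homology i).restrict j).restrict V.ι :=
      fun i => ((DerivedCategory.homologyFunctorFactors _ i).app _).symm ≪≫
        (DerivedCategory.homologyFunctor _ i).mapIso eC ≪≫ hdRhoIso V.ι _ i ≪≫
        (Scheme.Modules.restrictFunctor V.ι).mapIso (hdRhoIso j _ i ≪≫
          (Scheme.Modules.restrictFunctor j).mapIso ((DerivedCategory.homologyFunctorFactors _ i).app C))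
    obtain ⟨b₀, b₁, hb⟩ := hc.1
    obtain ⟨P', hP', hhi, hlow, ⟨e'⟩⟩ := exists_cutoff m (max b₁ m - m).toNat _ hc
      (fun i hi => hb i (Or.inr (by omega))) (fun i hi =>
        ((Scheme.Modules.restrictFunctor V.ι).map_isZero
          ((Scheme.Modules.restrictFunctor j).map_isZero (hφ i hi))).of_iso (hh i))
    have hd : P'.d (m - 1) m = 0 := (hlow m le_rfl hlo (m - 1) (by omega)).eq_of_src _ _
    have hd' : P'.d m (m + 1) = 0 := (hhi (m + 1) (by omega)).eq_of_tgt _ _
    haveI : IsIso (P'.homologyι m) := P'.isIso_homologyι m (m + 1) (by simp) hd'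
    haveI : IsIso (P'.pOpcycles m) := P'.isIso_pOpcycles (m - 1) m (by simp) hd
    refine ⟨k.opensRange, ⟨⟨w, hw⟩, rfl⟩, H23.PullPush.isFinLocFree_of_iso
      ((Scheme.Modules.restrictFunctorIsoPullback (rangeHom k)).symm.app _ ≪≫
        restrict₂Iso (rangeHom k) k k.opensRange.ι (rangeHom_fac k) _)
      (isFinLocFree_pullback (rangeHom k) (H23.PullPush.isFinLocFree_of_iso
      (asIso (P'.pOpcycles m) ≪≫ (asIso (P'.homologyι m)).symm ≪≫
        ((DerivedCategory.homologyFunctorFactors _ m).app P').symm ≪≫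
        (DerivedCategory.homologyFunctor _ m).mapIso e' ≪≫
        (DerivedCategory.homologyFunctorFactors _ m).app _ ≪≫ hh m ≪≫ restrict₂Iso V.ι j k rfl _)
      (hP'.2 m)))⟩

/-- Strictly perfect resolutions of bounded below quasi-coherent complexes which are perfect. -/
theorem exists_strictlyPerfect_quasiIso [CompactSpace X] [QuasiSeparatedSpace X]
    (hX : PerfAux.HasResolutionProperty X) (F : CochainComplex X.Modules ℤ)
    (hFb : ∃ a : ℤ, ∀ n : ℤ, n < a → IsZero (F.X n)) (hFq : ∀ n : ℤ, Coh.IsQCoh (F.X n))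
    (hF : DCoh.IsPerfect (DCoh.toD X F)) :
    ∃ (E : CochainComplex X.Modules ℤ) (φ : E ⟶ F), DCoh.IsStrictlyPerfect E ∧ QuasiIso φ := by
  obtain ⟨a₀, ha₀⟩ := hFb
  obtain ⟨α, β, hrep⟩ := exists_uniform_rep hF
  let lo := min a₀ α
  have hcq : ∀ {E : CochainComplex X.Modules ℤ} (φ : E ⟶ F), DCoh.IsStrictlyPerfect E → ∀ (m : ℤ),
      (∀ i, m < i → IsZero ((CochainComplex.mappingCone φ).homology i)) →
      Coh.IsQCoh ((CochainComplex.mappingCone φ).cycles m) ∧
      Coh.IsQCoh ((CochainComplex.mappingCone φ).homology m) ∧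
      CohB1.IsFT ((CochainComplex.mappingCone φ).homology m) := by
    intro E φ hE m hm
    have hq := isQCoh_cone φ (fun i => isQCoh_of_isFinLocFree (hE.2 i)) hFq
    refine ⟨isQCoh_cycles hq m, isQCoh_homology_of_terms _ hq m, isFT_of_iso'
      ((DerivedCategory.homologyFunctorFactors X.Modules m).app _)
      (isFT_top (locPC_of_locSP (locSP_cone φ hE hF) m) fun i hi => (hm i hi).of_iso
        ((DerivedCategory.homologyFunctorFactors X.Modules i).app _))⟩
  have key : ∀ d : ℕ, ∀ m : ℤ, max (β + 1) lo - m ≤ d → lo ≤ m →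
      ∃ (E : CochainComplex X.Modules ℤ) (φ : E ⟶ F), DCoh.IsStrictlyPerfect E ∧
        (∀ i, i ≤ m → IsZero (E.X i)) ∧ ∀ i, m < i → IsZero ((CochainComplex.mappingCone φ).homology i) := by
    intro d
    induction d with
    | zero =>
      intro m hm _
      refine ⟨0, 0, ⟨⟨0, 0, fun i _ => (HomologicalComplex.eval _ _ i).map_isZero (isZero_zero _)⟩,
        fun i => isFinLocFree_of_isZero ((HomologicalComplex.eval _ _ i).map_isZero (isZero_zero _))⟩,
        fun i _ => (HomologicalComplex.eval _ _ i).map_isZero (isZero_zero _), fun i hi => ?_⟩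
      refine (isPcMap_iff_cone (m + 1) _).1 (isPcMap_of_homologyMap (m + 1) _ (fun j hj => ?_) ?_) i (by omega)
      · exact ⟨0, ((HomologicalComplex.homologyFunctor _ _ j).map_isZero (isZero_zero _)).eq_of_src _ _,
          ((isZero_hd_of_reps hrep j (Or.inr (by omega))).of_iso
            ((DerivedCategory.homologyFunctorFactors X.Modules j).app F).symm).eq_of_src _ _⟩
      · exact ⟨fun _ _ _ => ((isZero_hd_of_reps hrep (m + 1) (Or.inr (by omega))).of_iso
          ((DerivedCategory.homologyFunctorFactors X.Modules (m + 1)).app F).symm).eq_of_src _ _⟩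
    | succ d ih =>
      intro m hm hlo
      by_cases hd : max (β + 1) lo - m ≤ d
      · exact ih m hd hlo
      obtain ⟨E, φ, hE, hEm, hφ⟩ := ih (m + 1) (by push_cast at hm; omega) (by omega)
      obtain ⟨hZ, hH, hHt⟩ := hcq φ hE (m + 1) hφ
      obtain ⟨P, g, hP, hg⟩ := exists_bundle_cover hX hZ hH hHt ((CochainComplex.mappingCone φ).homologyπ (m + 1))
      haveI := hg
      refine ⟨_, Rπ φ (stepV φ (m + 1) g), isStrictlyPerfect_step φ (m + 1) g hP hE,
        fun i hi => isZero_step φ (m + 1) g (by omega) (hEm i (by omega)), fun i hi => ?_⟩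
      exact (isPcMap_iff_cone (m + 1) _).1 (isPcMap_step φ (m + 1) g hφ) i (by omega)
  obtain ⟨E, φ, hE, hEm, hφ⟩ := key (max (β + 1) lo - lo).toNat lo (by omega) le_rfl
  let C := CochainComplex.mappingCone φ
  have hCz : ∀ i, i < lo → IsZero (C.X i) := fun i hi => by
    refine IsZero.of_iso ?_ (HomologicalComplex.homotopyCofiber.XIsoBiprod φ i (i + 1) rfl)
    rw [biprod_isZero_iff]
    exact ⟨hEm _ (by omega), ha₀ _ (by omega)⟩
  haveI : IsIso (C.homologyπ lo) :=
    C.isIso_homologyπ (lo - 1) lo (by simp) ((hCz _ (by omega)).eq_of_src _ _)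
  have hH : FlatMod.IsFinLocFree (C.homology lo) :=
    isFinLocFree_homology_cone φ lo hE hEm (min_le_right _ _) hrep hφ
  let g : C.cycles lo ⟶ C.cycles lo := 𝟙 _
  haveI : Epi (g ≫ C.homologyπ lo) := by
    show Epi (𝟙 _ ≫ C.homologyπ lo)
    rw [Category.id_comp]
    infer_instance
  have hv : QuasiIso (stepV φ lo g) := ⟨fun i => by
    rw [quasiIsoAt_iff_isIso_homologyMap]
    have hs : i ≠ lo → IsZero (((HomologicalComplex.single X.Modules (ComplexShape.up ℤ) lo).obj
        (C.cycles lo)).homology i) := fun hi =>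
      ShortComplex.isZero_homology_of_isZero_X₂ _ (HomologicalComplex.isZero_single_obj_X (ComplexShape.up ℤ) lo _ i hi)
    rcases lt_trichotomy i lo with hi | hi | hi
    · exact ⟨0, (hs (by omega)).eq_of_src _ _,
        (ShortComplex.isZero_homology_of_isZero_X₂ _ (hCz i hi)).eq_of_src _ _⟩
    · subst hi
      let σ := HomologicalComplex.singleObjHomologySelfIso (ComplexShape.up ℤ) lo (C.cycles lo)
      have : IsIso (σ.inv ≫ homologyMap (stepV φ lo g) lo) := by
        have h : σ.inv ≫ homologyMap (stepV φ lo g) lo = C.homologyπ lo := by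
          have h2 : (HomologicalComplex.singleObjCyclesSelfIso (ComplexShape.up ℤ) lo (C.cycles lo)).inv ≫
              cyclesMap (stepV φ lo g) lo = 𝟙 _ := by
            rw [← cancel_mono (C.iCycles lo)]
            simp [stepV, g, C]
          rw [← HomologicalComplex.singleObjCyclesSelfIso_inv_homologyπ, Category.assoc,
            HomologicalComplex.homologyπ_naturality, reassoc_of% h2]
        rw [h]
        infer_instance
      exact IsIso.of_isIso_comp_left σ.inv _
    · exact ⟨0, (hs (by omega)).eq_of_src _ _, (hφ i hi).eq_of_src _ _⟩⟩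
  exact ⟨_, Rπ φ (stepV φ lo g), isStrictlyPerfect_step φ lo g
    (H23.PullPush.isFinLocFree_of_iso (asIso (C.homologyπ lo)).symm hH) hE, inferInstance⟩

end Groth.Agent.ResPerf7
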