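import Groth.Agent.ResPerf7.Apply
import Groth.Agent.AmpleFam7.Main
import Groth.Agent.S4270
import Mathlib.CategoryTheory.Limits.Constructions.EventuallyConstant
import Mathlib.CategoryTheory.Functor.OfSequence

/-! Resolutions by a class of bundles covering all modules of finite type. -/

set_option autoImplicit false
set_option linter.style.haveILetI false
set_option backward.isDefEq.respectTransparency false
set_option backward.isDefEq.respectTransparency.types false
set_option maxHeartbeats 1000000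

universe u

open CategoryTheory CategoryTheory.Limits AlgebraicGeometry Pretriangulated HomologicalComplex
open scoped ZeroObject

attribute [local instance] HasDerivedCategory.standard

noncomputable section

namespace Groth.Agent.ResPerf7

open Groth.Agent.KFlatLib Groth.Agent.QCoh Groth.Agent.QCoh.SerreFT Groth.Agent.PerfGen7.LeftRes
  Groth.Agent.QCohEquiv7

variable {X : Scheme.{u}}

/-- A class of bundles, closed under sums, covering all quasi-coherent modules of finite type. -/
structure Cover (P : X.Modules → Prop) : Prop where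
  iso : ∀ {M N : X.Modules}, (M ≅ N) → P M → P N
  zero : ∀ {M : X.Modules}, IsZero M → P M
  sum : ∀ {M N : X.Modules}, P M → P N → P (M ⊞ N)
  flf : ∀ {M : X.Modules}, P M → FlatMod.IsFinLocFree M
  cover : ∀ A : X.Modules, Coh.IsQCoh A → CohB1.IsFT A → ∃ (M : X.Modules) (p : M ⟶ A), P M ∧ Epi p

lemma isNegPower_of_iso {ι : Type u} {L : ι → X.Modules} {M N : X.Modules} (e : M ≅ N)
    (h : KSix.IsNegPower L M) : KSix.IsNegPower L N := by
  obtain ⟨i, k, hk, ⟨φ⟩⟩ := h
  exact ⟨i, k, hk, ⟨PicGrp.tensorModIso e.symm (Iso.refl _) ≪≫ φ⟩⟩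

theorem cover_inAddL {ι : Type u} {L : ι → X.Modules} (hL : KSix.IsAmpleFamily L) :
    Cover (fun M => KSix.InAddL L M ∧ FlatMod.IsFinLocFree M) where
  iso e := fun ⟨⟨k, N, hN, ⟨e'⟩⟩, h⟩ => ⟨⟨k, N, hN, ⟨e.symm ≪≫ e'⟩⟩, H23.PullPush.isFinLocFree_of_iso e h⟩
  zero h := ⟨⟨0, fun j => j.elim0, fun j => j.elim0, ⟨h.iso ((IsZero.iff_id_eq_zero _).2 (biproduct.hom_ext _ _ fun j => j.elim0))⟩⟩,
    isFinLocFree_of_isZero h⟩
  sum := fun ⟨⟨k, N, hN, ⟨e⟩⟩, h⟩ ⟨⟨k', N', hN', ⟨e'⟩⟩, h'⟩ => by
    have hmem : ∀ j, KSix.IsNegPower L (Fin.append N N' j) := fun j => by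
      induction j using Fin.addCases with
      | left a => rw [Fin.append_left]; exact hN a
      | right a => rw [Fin.append_right]; exact hN' a
    refine ⟨⟨k + k', Fin.append N N', hmem, ⟨?_⟩⟩, isFinLocFree_biprod' h h'⟩
    · refine biprod.mapIso e e' ≪≫
        { hom := biprod.desc (biproduct.desc fun a => eqToHom (Fin.append_left N N' a).symm ≫ biproduct.ι (Fin.append N N') (Fin.castAdd k' a))
            (biproduct.desc fun a => eqToHom (Fin.append_right N N' a).symm ≫ biproduct.ι (Fin.append N N') (Fin.natAdd k a))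
          inv := biproduct.desc fun j => Fin.addCases
            (motive := fun j => Fin.append N N' j ⟶ (⨁ N) ⊞ (⨁ N'))
            (fun a => eqToHom (Fin.append_left N N' a) ≫ biproduct.ι N a ≫ biprod.inl)
            (fun a => eqToHom (Fin.append_right N N' a) ≫ biproduct.ι N' a ≫ biprod.inr) j
          hom_inv_id := ?_
          inv_hom_id := ?_ }
      · apply biprod.hom_ext' <;> apply biproduct.hom_ext' <;> intro a <;> simp
      · apply biproduct.hom_ext'
        intro j
        induction j using Fin.addCases <;> simp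
  flf h := h.2
  cover A hA hA' := by
    obtain ⟨M, π, h1, h2, hπ⟩ := AmpleFam7.exists_epi hL A hA hA'
    exact ⟨M, π, ⟨h1, h2⟩, hπ⟩

variable {P : X.Modules → Prop}

/-- A finite type submodule surjecting onto a given quotient. -/
theorem exists_ft_sub_epi [CompactSpace X] [QuasiSeparatedSpace X]
    {Z H : X.Modules} (hZ : Coh.IsQCoh Z) (hH : Coh.IsQCoh H) (hHt : CohB1.IsFT H) (π : Z ⟶ H) [Epi π] :
    ∃ (A : X.Modules) (j : A ⟶ Z), Coh.IsQCoh A ∧ CohB1.IsFT A ∧ Epi (j ≫ π) := by
  obtain ⟨F, hF⟩ := isCompact_univ.elim_finite_subcover (fun V : X.affineOpens => (V.1 : Set X))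
    (fun V => V.1.2) fun y _ => by
      obtain ⟨V, hV, hyV⟩ := exists_affine_mem y
      exact Set.mem_iUnion.2 ⟨⟨V, hV⟩, hyV⟩
  let W : F → X.Opens := fun k => k.1.1
  have hW : ∀ k, IsAffineOpen (W k) := fun k => k.1.2
  choose T hT using fun k => (finite_of_isFT hH hHt (hW k)).fg_top
  choose lf hlf using fun m : (Σ k : F, T k) => app_surjective_of_epi hZ hH π (hW m.1) m.2.1
  obtain ⟨A, j, -, hA, hAt, hs⟩ := exists_ft_containing hZ (fun m : (Σ k : F, T k) => W m.1)
    (fun m => hW m.1) lf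
  refine ⟨A, j, hA, hAt, ?_⟩
  let ψ := j ≫ π
  have hQ := isQCoh_cokernel hA hH ψ
  refine Preadditive.epi_of_cokernel_zero
    ((isZero_of_cover hQ W hW ?_ fun k => subsingleton_of_forall_eq 0 fun q => ?_).eq_of_tgt _ _)
  · intro x
    obtain ⟨V, hV, hxV⟩ := Set.mem_iUnion₂.1 (hF (Set.mem_univ x))
    exact ⟨⟨V, hV⟩, hxV⟩
  · obtain ⟨m, rfl⟩ := app_surjective_of_epi hH hQ (cokernel.π ψ) (hW k) q
    show appLin (cokernel.π ψ) (W k) m = 0
    have hm : m ∈ Submodule.span Γ(X, W k) (T k : Set Γ(H, W k)) := by rw [hT k]; trivial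
    refine (Submodule.span_le (p := LinearMap.ker (appLin (cokernel.π ψ) (W k)))).2 ?_ hm
    intro t ht
    obtain ⟨w, hw⟩ := hs ⟨k, ⟨t, ht⟩⟩
    show (cokernel.π ψ).app (W k) t = 0
    have h : ψ.app (W k) w = t := by
      show π.app (W k) (j.app (W k) w) = t
      rw [hw]
      exact hlf ⟨k, ⟨t, ht⟩⟩
    rw [← h]
    exact congr(($(cokernel.condition ψ)).app (W k) w)

/-- The last step is a quasi-isomorphism. -/
theorem quasiIso_stepV_id {E F : CochainComplex X.Modules ℤ} (φ : E ⟶ F) (lo : ℤ)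
    (hCz : ∀ i, i < lo → IsZero ((CochainComplex.mappingCone φ).X i))
    (hφ : ∀ i, lo < i → IsZero ((CochainComplex.mappingCone φ).homology i)) :
    QuasiIso (stepV φ lo (𝟙 ((CochainComplex.mappingCone φ).cycles lo))) := by
  let C := CochainComplex.mappingCone φ
  let g : C.cycles lo ⟶ C.cycles lo := 𝟙 _
  haveI : IsIso (C.homologyπ lo) :=
    C.isIso_homologyπ (lo - 1) lo (by simp) ((hCz _ (by omega)).eq_of_src _ _)
  exact ⟨fun i => by
    rw [quasiIsoAt_iff_isIso_homologyMap]
    have hs : i ≠ lo → IsZero (((HomologicalComplex.single X.Modules (ComplexShape.up ℤ) lo).obj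
        (C.cycles lo)).homology i) := fun hi =>
      ShortComplex.isZero_homology_of_isZero_X₂ _ (HomologicalComplex.isZero_single_obj_X (ComplexShape.up ℤ) lo _ i hi)
    rcases lt_trichotomy i lo with hi | hi | hi
    · exact ⟨0, (hs (by omega)).eq_of_src _ _,
        (ShortComplex.isZero_homology_of_isZero_X₂ _ (hCz i hi)).eq_of_src _ _⟩
    · obtain rfl : lo = i := hi.symm
      let σ := HomologicalComplex.singleObjHomologySelfIso (ComplexShape.up ℤ) lo (C.cycles lo)
      have : IsIso (σ.inv ≫ homologyMap (stepV φ lo g) lo) := by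
        have h : σ.inv ≫ homologyMap (stepV φ lo g) lo = C.homologyπ lo := by
          have h2 : (HomologicalComplex.singleObjCyclesSelfIso (ComplexShape.up ℤ) lo (C.cycles lo)).inv ≫
              cyclesMap (stepV φ lo g) lo = 𝟙 _ := by
            rw [← cancel_mono (C.iCycles lo)]
            simp [stepV, g, C]
          rw [← HomologicalComplex.singleObjCyclesSelfIso_inv_homologyπ, Category.assoc,
            HomologicalComplex.homologyπ_naturality, reassoc_of% h2]
        rw [h]
        infer_instance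
      exact IsIso.of_isIso_comp_left σ.inv _
    · exact ⟨0, (hs (by omega)).eq_of_src _ _, (hφ i hi).eq_of_src _ _⟩⟩

/-- Covering a quotient of finite type through a given quasi-coherent module. -/
theorem Cover.exists_cover (hP : Cover P) [CompactSpace X] [QuasiSeparatedSpace X]
    {Z H : X.Modules} (hZ : Coh.IsQCoh Z) (hH : Coh.IsQCoh H) (hHt : CohB1.IsFT H) (π : Z ⟶ H) [Epi π] :
    ∃ (M : X.Modules) (g : M ⟶ Z), P M ∧ Epi (g ≫ π) := by
  obtain ⟨A, j, hA, hAt, hj⟩ := exists_ft_sub_epi hZ hH hHt π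
  obtain ⟨M, p, hM, hp⟩ := hP.cover A hA hAt
  haveI := hp
  haveI := hj
  exact ⟨M, p ≫ j, hM, by rw [Category.assoc]; infer_instance⟩

variable {F : CochainComplex X.Modules ℤ}

/-- A partial resolution: terms in `P`, concentrated in degrees `(m, b]`, surjecting onto cohomology. -/
structure PRes (P : X.Modules → Prop) (F : CochainComplex X.Modules ℤ) (b m : ℤ) where
  E : CochainComplex X.Modules ℤ
  φ : E ⟶ F
  mem : ∀ i, P (E.X i)
  low : ∀ i, i ≤ m → IsZero (E.X i)
  high : ∀ i, b < i → IsZero (E.X i)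
  exact : ∀ i, m < i → IsZero ((CochainComplex.mappingCone φ).homology i)

lemma PRes.sp (hP : Cover P) {b m : ℤ} (D : PRes P F b m) : DCoh.IsStrictlyPerfect D.E :=
  ⟨⟨m + 1, b, fun i hi => hi.elim (fun h => D.low i (by omega)) (D.high i)⟩, fun i => hP.flf (D.mem i)⟩

lemma nonempty_pres_start (hP : Cover P) (b : ℤ) (hb : ∀ i, b < i → IsZero (F.homology i)) (m : ℤ) (hm : b ≤ m) :
    Nonempty (PRes P F b m) := by
  have hz : ∀ i, IsZero ((0 : CochainComplex X.Modules ℤ).X i) := fun i =>
    (HomologicalComplex.eval _ _ i).map_isZero (isZero_zero _)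
  refine ⟨⟨0, 0, fun i => hP.zero (hz i), fun i _ => hz i, fun i _ => hz i, fun i hi => ?_⟩⟩
  refine (isPcMap_iff_cone (m + 1) _).1 (isPcMap_of_homologyMap (m + 1) _ (fun j hj => ?_) ?_) i (by omega)
  · exact ⟨0, ((HomologicalComplex.homologyFunctor _ _ j).map_isZero (isZero_zero _)).eq_of_src _ _,
      (hb j (by omega)).eq_of_src _ _⟩
  · exact ⟨fun _ _ _ => (hb (m + 1) (by omega)).eq_of_src _ _⟩

/-- One step down. -/
theorem exists_pres_step (hP : Cover P) [CompactSpace X] [QuasiSeparatedSpace X]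
    (hFq : ∀ n, Coh.IsQCoh (F.X n)) {b m : ℤ} (hm : m < b) (hF : ∀ k, LocPC k (DCoh.toD X F))
    (D : PRes P F b (m + 1)) :
    ∃ (D' : PRes P F b m) (ι : D.E ⟶ D'.E), (∀ i, i ≠ m + 1 → IsIso (ι.f i)) ∧ ι ≫ D'.φ = D.φ := by
  let C := CochainComplex.mappingCone D.φ
  have hq := isQCoh_cone D.φ (fun i => isQCoh_of_isFinLocFree (hP.flf (D.mem i))) hFq
  have hpc : LocPC (m + 1) (DCoh.toD X C) :=
    KFlatLib.locPC_obj₃ (DerivedCategory.Q.mapTriangle.obj (CochainComplex.mappingCone.triangle D.φ))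
      ((DerivedCategory.mem_distTriang_iff _).2 ⟨_, _, D.φ, ⟨Iso.refl _⟩⟩)
      ((locSP_toD (D.sp hP)).locPC _) (hF _)
  have hHt : CohB1.IsFT (C.homology (m + 1)) := isFT_of_iso'
    ((DerivedCategory.homologyFunctorFactors X.Modules (m + 1)).app _)
    (isFT_top hpc fun i hi => (D.exact i hi).of_iso
      ((DerivedCategory.homologyFunctorFactors X.Modules i).app _))
  obtain ⟨M, g, hM, hg⟩ := hP.exists_cover (isQCoh_cycles hq (m + 1)) (isQCoh_homology_of_terms _ hq (m + 1))
    hHt (C.homologyπ (m + 1))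
  haveI := hg
  let S := (HomologicalComplex.single X.Modules (ComplexShape.up ℤ) (m + 1)).obj M
  have hS : ∀ i, i ≠ m + 1 → IsZero (S.X i) := fun i hi =>
    HomologicalComplex.isZero_single_obj_X (ComplexShape.up ℤ) (m + 1) M i hi
  refine ⟨⟨R D.φ (stepV D.φ (m + 1) g), Rπ D.φ (stepV D.φ (m + 1) g), fun i => ?_, fun i hi => ?_, fun i hi => ?_,
    fun i hi => (isPcMap_iff_cone (m + 1) _).1 (isPcMap_step D.φ (m + 1) g D.exact) i (by omega)⟩,
    RInl _ _, fun i hi => ?_, RInl_Rπ _ _⟩
  · show P (D.E.X i ⊞ S.X i)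
    refine hP.sum (D.mem i) ?_
    rcases eq_or_ne i (m + 1) with h | h
    · subst h
      exact hP.iso (HomologicalComplex.singleObjXSelf _ _ M).symm hM
    · exact hP.zero (hS i h)
  · show IsZero (D.E.X i ⊞ S.X i)
    rw [biprod_isZero_iff]
    exact ⟨D.low i (by omega), hS i (by omega)⟩
  · show IsZero (D.E.X i ⊞ S.X i)
    rw [biprod_isZero_iff]
    exact ⟨D.high i hi, hS i (by omega)⟩
  · show IsIso (biprod.inl : D.E.X i ⟶ D.E.X i ⊞ S.X i)
    refine ⟨biprod.fst, biprod.inl_fst, ?_⟩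
    apply biprod.hom_ext'
    · simp
    · exact (hS i hi).eq_of_src _ _

theorem nonempty_pres (hP : Cover P) [CompactSpace X] [QuasiSeparatedSpace X]
    (hFq : ∀ n, Coh.IsQCoh (F.X n)) {b : ℤ} (hF : ∀ k, LocPC k (DCoh.toD X F))
    (hb : ∀ i, b < i → IsZero (F.homology i)) : ∀ (d : ℕ) (m : ℤ), b - m ≤ d → Nonempty (PRes P F b m)
  | 0, m, hm => nonempty_pres_start hP b hb m (by omega)
  | d + 1, m, hm => by
    by_cases h : b ≤ m
    · exact nonempty_pres_start hP b hb m h
    · obtain ⟨D⟩ := nonempty_pres hP hFq hF hb d (m + 1) (by push_cast at hm; omega)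
      exact ⟨(exists_pres_step hP hFq (by omega) hF D).choose⟩

/-- Bounded above resolutions of pseudo-coherent complexes. -/
theorem exists_resolution_above (hP : Cover P) [CompactSpace X] [QuasiSeparatedSpace X]
    (hFq : ∀ n, Coh.IsQCoh (F.X n)) {b : ℤ} (hF : ∀ k, LocPC k (DCoh.toD X F))
    (hb : ∀ i, b < i → IsZero (F.homology i)) :
    ∃ (G : CochainComplex X.Modules ℤ) (φ : G ⟶ F), (∀ i, P (G.X i)) ∧ (∀ i, b < i → IsZero (G.X i)) ∧
      QuasiIso φ := by
  let step : ∀ k : ℕ, PRes P F b (b - k) → PRes P F b (b - (k + 1 : ℕ)) := fun k D =>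
    (exists_pres_step hP hFq (by push_cast; omega) hF
      ((show b - (k : ℤ) = b - ((k + 1 : ℕ) : ℤ) + 1 by push_cast; ring) ▸ D)).choose
  let D : ∀ k : ℕ, PRes P F b (b - k) := fun k =>
    Nat.rec (nonempty_pres_start hP b hb (b - (0 : ℕ)) (by simp)).some step k
  have hstep : ∀ k, ∃ ι : (D k).E ⟶ (D (k + 1)).E, (∀ i, i ≠ b - k → IsIso (ι.f i)) ∧ ι ≫ (D (k + 1)).φ = (D k).φ := by
    intro k
    have : ∀ (m m' : ℤ) (hm : m' < b) (e : m = m' + 1) (D₀ : PRes P F b m),
        ∃ ι : D₀.E ⟶ (exists_pres_step hP hFq hm hF (e ▸ D₀)).choose.E, (∀ i, i ≠ m → IsIso (ι.f i)) ∧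
          ι ≫ (exists_pres_step hP hFq hm hF (e ▸ D₀)).choose.φ = D₀.φ := by
      rintro m m' hm rfl D₀
      exact (exists_pres_step hP hFq hm hF D₀).choose_spec
    exact this (b - k) (b - ((k + 1 : ℕ) : ℤ)) (by push_cast; omega) (by push_cast; ring) (D k)
  choose ι hι hφ using hstep
  let S : ℕ ⥤ CochainComplex X.Modules ℤ := Functor.ofSequence ι
  let c : Cocone S := { pt := F, ι := NatTrans.ofSequence (fun k => (D k).φ) (fun k => by
    simp [S, hφ]) }
  let G := colimit S
  let φ : G ⟶ F := colimit.desc S c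
  have hfac : ∀ k, colimit.ι S k ≫ φ = (D k).φ := fun k => colimit.ι_desc _ _
  have hiso : ∀ (i : ℤ) (k : ℕ), b - i < k → IsIso ((colimit.ι S k).f i) := by
    intro i k hk
    let e := HomologicalComplex.eval X.Modules (ComplexShape.up ℤ) i
    have h : (S ⋙ e).IsEventuallyConstantFrom k := by
      have key : ∀ (d : ℕ), IsIso ((S ⋙ e).map (homOfLE (Nat.le_add_right k d))) := by
        intro d
        induction d with
        | zero =>
          rw [show homOfLE (Nat.le_add_right k 0) = 𝟙 k from Subsingleton.elim _ _, CategoryTheory.Functor.map_id]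
          exact inferInstanceAs (IsIso (𝟙 _))
        | succ d ih =>
          rw [show homOfLE (Nat.le_add_right k (d + 1)) = homOfLE (Nat.le_add_right k d) ≫ homOfLE (Nat.le_add_right (k + d) 1)
            from Subsingleton.elim _ _, Functor.map_comp]
          haveI := ih
          haveI : IsIso ((S ⋙ e).map (homOfLE (Nat.le_add_right (k + d) 1))) := by
            show IsIso ((S.map (homOfLE (Nat.le_add_right (k + d) 1))).f i)
            rw [Functor.ofSequence_map_homOfLE_succ]
            exact hι (k + d) i (by omega)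
          infer_instance
      intro l f
      obtain ⟨d, rfl⟩ := Nat.exists_eq_add_of_le (leOfHom f)
      rw [Subsingleton.elim f (homOfLE (Nat.le_add_right k d))]
      exact key d
    exact h.isIso_ι_of_isColimit (isColimitOfPreserves e (colimit.isColimit S))
  refine ⟨G, φ, fun i => ?_, fun i hi => ?_, ⟨fun i => ?_⟩⟩
  · haveI := hiso i ((b - i).toNat + 1) (by omega)
    exact hP.iso (asIso ((colimit.ι S ((b - i).toNat + 1)).f i)) ((D ((b - i).toNat + 1)).mem i)
  · haveI := hiso i ((b - i).toNat + 1) (by omega)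
    exact (show IsZero ((S.obj ((b - i).toNat + 1)).X i) from (D ((b - i).toNat + 1)).high i hi).of_iso (asIso ((colimit.ι S ((b - i).toNat + 1)).f i)).symm
  · let k := (b - i).toNat + 3
    haveI := hiso (i - 1) k (by omega)
    haveI := hiso i k (by omega)
    haveI := hiso (i + 1) k (by omega)
    haveI : QuasiIsoAt (colimit.ι S k) i := by
      rw [quasiIsoAt_iff' _ (i - 1) i (i + 1) (by simp) (by simp)]
      haveI : IsIso ((shortComplexFunctor' X.Modules (ComplexShape.up ℤ) (i - 1) i (i + 1)).map (colimit.ι S k)) := by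
        haveI : IsIso ((shortComplexFunctor' X.Modules (ComplexShape.up ℤ) (i - 1) i (i + 1)).map (colimit.ι S k)).τ₁ :=
          hiso (i - 1) k (by omega)
        haveI : IsIso ((shortComplexFunctor' X.Modules (ComplexShape.up ℤ) (i - 1) i (i + 1)).map (colimit.ι S k)).τ₂ :=
          hiso i k (by omega)
        haveI : IsIso ((shortComplexFunctor' X.Modules (ComplexShape.up ℤ) (i - 1) i (i + 1)).map (colimit.ι S k)).τ₃ :=
          hiso (i + 1) k (by omega)
        exact ShortComplex.isIso_of_isIso _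
      infer_instance
    haveI : QuasiIsoAt (colimit.ι S k ≫ φ) i := by
      rw [hfac, quasiIsoAt_iff_isIso_homologyMap]
      have h := ((isPcMap_iff_cone (b - k + 1) (D k).φ).2 fun j hj => (D k).exact j (by omega)).1 i (by omega)
      exact (NatIso.isIso_map_iff (DerivedCategory.homologyFunctorFactors X.Modules i) (D k).φ).1 h
    exact quasiIsoAt_of_comp_left (colimit.ι S k) φ i

theorem hd_bound_of_complex {E : DCoh.D X} {C : CochainComplex X.Modules ℤ} (e : DCoh.toD X C ≅ E) {b : ℤ}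
    (h : ∀ i, b < i → IsZero (DCoh.HD E i)) (i : ℤ) (hi : b < i) : IsZero (C.homology i) :=
  (h i hi).of_iso (((DerivedCategory.homologyFunctorFactors X.Modules i).app C).symm ≪≫
    (DerivedCategory.homologyFunctor X.Modules i).mapIso e)

/-- Quasi-coherent representatives, bounded below. -/
theorem exists_qcoh_rep [CompactSpace X] [QuasiSeparatedSpace X] (hX : PerfAux.HasResolutionProperty X)
    {E : DCoh.D X} (hE : DCoh.IsQCohD E) (a : ℤ) [E.IsGE a] :
    ∃ C : CochainComplex X.Modules ℤ, (∀ n, n < a → IsZero (C.X n)) ∧ (∀ n, Coh.IsQCoh (C.X n)) ∧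
      Nonempty (DCoh.toD X C ≅ E) := by
  obtain ⟨-, -, hess⟩ := full_faithful_incD X (affineDiagonal hX)
  obtain ⟨M, ⟨e⟩⟩ := (hess E).1 hE
  haveI hM : M.IsGE a := CohD7.isGE_of_map (inc X) M a ((DerivedCategory.isGE_iff _ a).2 fun n hn =>
    ((DerivedCategory.isGE_iff _ a).1 inferInstance n hn).of_iso
      ((DerivedCategory.homologyFunctor X.Modules n).mapIso e))
  obtain ⟨C, hC, ⟨eM⟩⟩ := M.exists_iso_Q_obj_of_isGE a
  exact ⟨(incC X).obj C, fun n hn => incC_isZero a n hn, fun n => (C.X n).property,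
    ⟨((inc X).mapDerivedCategoryFactors.app C).symm ≪≫ (incD X).mapIso eM.symm ≪≫ e⟩⟩

/-- A perfect complex bounded below at `m` has a resolution by `P` above `m` and a bundle at `m`. -/
theorem exists_resolution_perfect (hP : Cover P) [CompactSpace X] [QuasiSeparatedSpace X]
    (hFq : ∀ n, Coh.IsQCoh (F.X n)) {m n : ℤ} (hmn : m ≤ n) (hF₀ : ∀ i, i < m → IsZero (F.X i))
    (hrep : ∀ x : X, ∃ (U : Scheme.{u}) (j : U ⟶ X) (_ : IsOpenImmersion j), x ∈ Set.range j.base ∧
      ∃ Q : CochainComplex U.Modules ℤ, DCoh.IsStrictlyPerfect Q ∧ DCoh.VanishesOutside Q m n ∧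
        Nonempty (DerivedCategory.Q.obj Q ≅ (rho j).obj (DCoh.toD X F))) :
    ∃ (G : CochainComplex X.Modules ℤ) (φ : G ⟶ F), DCoh.VanishesOutside G m n ∧ (∀ i, m < i → P (G.X i)) ∧
      FlatMod.IsFinLocFree (G.X m) ∧ QuasiIso φ := by
  have hsp : LocSP (DCoh.toD X F) := fun x => by
    obtain ⟨U, j, hj, hx, Q, hQ, -, he⟩ := hrep x
    exact ⟨U, j, hj, hx, Q, hQ, he⟩
  have hb : ∀ i, n < i → IsZero (F.homology i) := fun i hi =>
    (isZero_hd_of_reps hrep i (Or.inr hi)).of_iso ((DerivedCategory.homologyFunctorFactors X.Modules i).app F).symm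
  obtain ⟨D⟩ := nonempty_pres (m := m) hP hFq (fun k => hsp.locPC k) hb (n - m).toNat (by omega)
  let C := CochainComplex.mappingCone D.φ
  have hCz : ∀ i, i < m → IsZero (C.X i) := fun i hi => by
    refine IsZero.of_iso ?_ (HomologicalComplex.homotopyCofiber.XIsoBiprod D.φ i (i + 1) rfl)
    rw [biprod_isZero_iff]
    exact ⟨D.low _ (by omega), hF₀ _ (by omega)⟩
  haveI : IsIso (C.homologyπ m) :=
    C.isIso_homologyπ (m - 1) m (by simp) ((hCz _ (by omega)).eq_of_src _ _)
  have hH : FlatMod.IsFinLocFree (C.homology m) :=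
    isFinLocFree_homology_cone D.φ m (D.sp hP) D.low le_rfl hrep D.exact
  let S := (HomologicalComplex.single X.Modules (ComplexShape.up ℤ) m).obj (C.cycles m)
  have hS : ∀ i, i ≠ m → IsZero (S.X i) := fun i hi =>
    HomologicalComplex.isZero_single_obj_X (ComplexShape.up ℤ) m _ i hi
  haveI hv : QuasiIso (stepV D.φ m (𝟙 (C.cycles m))) := quasiIso_stepV_id D.φ m hCz D.exact
  refine ⟨R D.φ (stepV D.φ m (𝟙 (C.cycles m))), Rπ D.φ _, fun i hi => ?_, fun i hi => ?_, ?_, inferInstance⟩
  · show IsZero (D.E.X i ⊞ S.X i)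
    rw [biprod_isZero_iff]
    exact ⟨hi.elim (fun h => D.low i (by omega)) (D.high i), hS i (by omega)⟩
  · exact hP.sum (D.mem i) (hP.zero (hS i (by omega)))
  · exact isFinLocFree_biprod' (hP.flf (D.mem m))
      (H23.PullPush.isFinLocFree_of_iso (HomologicalComplex.singleObjXSelf _ m _).symm
        (H23.PullPush.isFinLocFree_of_iso (asIso (C.homologyπ m)).symm hH))

end Groth.Agent.ResPerf7
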