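import Mathlib

/-! Fractions between bounded below complexes. -/

set_option autoImplicit false
set_option linter.style.haveILetI false
set_option backward.isDefEq.respectTransparency false

universe w v u

open CategoryTheory Category Limits Pretriangulated CochainComplex

namespace Groth.Agent.ResPerf7

variable {A : Type u} [Category.{v} A] [Abelian A] [HasDerivedCategory.{w} A]

local notation "q" => HomotopyCategory.quotient A (ComplexShape.up ℤ)

lemma isStrictlyGE_of_le {K : CochainComplex A ℤ} {a b : ℤ} (h : b ≤ a) [K.IsStrictlyGE a] :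
    K.IsStrictlyGE b :=
  (CochainComplex.isStrictlyGE_iff K b).2 fun i hi => K.isZero_of_isStrictlyGE a i (by omega)

lemma isStrictlyGE_biprod {K L : CochainComplex A ℤ} (a : ℤ) [K.IsStrictlyGE a] [L.IsStrictlyGE a] :
    (K ⊞ L).IsStrictlyGE a := (CochainComplex.isStrictlyGE_iff _ a).2 fun i hi =>
  IsZero.of_iso ((biprod_isZero_iff _ _).2
    ⟨K.isZero_of_isStrictlyGE a i hi, L.isZero_of_isStrictlyGE a i hi⟩)
    ((HomologicalComplex.eval A (ComplexShape.up ℤ) i).mapBiprod K L)

lemma quotient_mappingCocone_fst_comp {K L : CochainComplex A ℤ} (φ : K ⟶ L) :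
    (q).map (mappingCocone.fst φ ≫ φ) = 0 := by
  have hT : (q).mapTriangle.obj (mappingCocone.triangle φ) ∈ distTriang _ := by
    rw [rotate_distinguished_triangle]
    exact isomorphic_distinguished _ (HomotopyCategory.mappingCone_triangleh_distinguished φ) _
      ((q).mapTriangleRotateIso.app _ ≪≫ (q).mapTriangle.mapIso (mappingCocone.rotateTriangleIso φ))
  rw [Functor.map_comp]
  exact comp_distTriang_mor_zero₁₂ _ hT

lemma Q_map_eq_zero_of_quotient {K L : CochainComplex A ℤ} (f : K ⟶ L) (h : (q).map f = 0) :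
    DerivedCategory.Q.map f = 0 := by
  rw [← cancel_epi ((DerivedCategory.quotientCompQhIso A).hom.app K), comp_zero]
  refine ((DerivedCategory.quotientCompQhIso A).hom.naturality f).symm.trans ?_
  rw [Functor.comp_map, h, Functor.map_zero, zero_comp]

lemma isStrictlyGE_mappingCocone {K L : CochainComplex A ℤ} (φ : K ⟶ L) (a : ℤ) [K.IsStrictlyGE a]
    [L.IsStrictlyGE a] : (mappingCocone φ).IsStrictlyGE a := by
  haveI := CochainComplex.isStrictlyGE_mappingCone φ a a (a - 1) (by omega) (by omega)
  exact CochainComplex.isStrictlyGE_shift (mappingCone φ) (a - 1) (-1) a (by omega)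

/-- Replace a target of a quasi-isomorphism by a bounded below one. -/
lemma exists_truncated {F F' : CochainComplex A ℤ} (a : ℤ) [F.IsStrictlyGE a] (s : F ⟶ F')
    (hs : QuasiIso s) : ∃ (F'' : CochainComplex A ℤ) (t : F' ⟶ F''), F''.IsStrictlyGE a ∧ QuasiIso (s ≫ t) := by
  haveI := hs
  haveI : F'.IsGE a := (CochainComplex.isGE_iff F' a).2 fun i hi =>
    (quasiIsoAt_iff_exactAt s i (F.exactAt_of_isGE a i hi)).1 inferInstance
  exact ⟨F'.truncGE a, F'.πTruncGE a, inferInstance, inferInstance⟩

/-- Morphisms in the derived category between bounded below complexes are roofs of such complexes. -/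
theorem exists_roof {E F : CochainComplex A ℤ} (a : ℤ) [E.IsStrictlyGE a] [F.IsStrictlyGE a]
    (α : DerivedCategory.Q.obj E ⟶ DerivedCategory.Q.obj F) :
    ∃ (C : CochainComplex A ℤ) (c : C ⟶ E) (h : C ⟶ F), C.IsStrictlyGE a ∧ QuasiIso c ∧
      DerivedCategory.Q.map c ≫ α = DerivedCategory.Q.map h := by
  obtain ⟨F', g₀, s₀, hs₀, hα⟩ := DerivedCategory.left_fac α
  obtain ⟨F'', t, hF'', hs⟩ := exists_truncated a s₀ ((DerivedCategory.isIso_Q_map_iff_quasiIso _ _).1 hs₀)
  obtain ⟨g, s, hs', hαs⟩ : ∃ (g : E ⟶ F'') (s : F ⟶ F''), QuasiIso s ∧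
      α ≫ DerivedCategory.Q.map s = DerivedCategory.Q.map g :=
    ⟨g₀ ≫ t, s₀ ≫ t, hs, by simp [hα]⟩
  haveI : IsIso (DerivedCategory.Q.map s) := (DerivedCategory.isIso_Q_map_iff_quasiIso _ _).2 hs'
  let φ : E ⊞ F ⟶ F'' := biprod.desc g (-s)
  haveI := hF''
  haveI := isStrictlyGE_biprod (K := E) (L := F) a
  refine ⟨mappingCocone φ, mappingCocone.fst φ ≫ biprod.fst, mappingCocone.fst φ ≫ biprod.snd,
    isStrictlyGE_mappingCocone φ a, ?_, ?_⟩
  · rw [← DerivedCategory.isIso_Q_map_iff_quasiIso]
    let T := DerivedCategory.Q.mapTriangle.obj (mappingCocone.triangle φ)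
    have hT : T ∈ distTriang _ := DerivedCategory.mappingCocone_triangle_distinguished φ
    let x : DerivedCategory.Q.obj E ⟶ DerivedCategory.Q.obj (E ⊞ F) :=
      DerivedCategory.Q.map biprod.inl + α ≫ DerivedCategory.Q.map biprod.inr
    have hx : x ≫ T.mor₂ = 0 := by
      show x ≫ DerivedCategory.Q.map φ = 0
      simp only [x, φ, Preadditive.add_comp, Category.assoc, ← Functor.map_comp, biprod.inl_desc,
        biprod.inr_desc, Functor.map_neg, Preadditive.comp_neg, hαs, add_neg_cancel]
    obtain ⟨k, hk⟩ := Triangle.coyoneda_exact₂ T hT x hx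
    have h3 : T.mor₃ = 0 := by
      have h : T.mor₂ ≫ T.mor₃ = 0 := comp_distTriang_mor_zero₂₃ _ hT
      have hsplit : (-(inv (DerivedCategory.Q.map s))) ≫ DerivedCategory.Q.map biprod.inr ≫ T.mor₂ = 𝟙 _ := by
        show _ ≫ _ ≫ DerivedCategory.Q.map φ = _
        rw [← Functor.map_comp, biprod.inr_desc, Functor.map_neg]
        simp
      rw [← Category.id_comp T.mor₃]
      refine (congrArg (· ≫ T.mor₃) hsplit.symm).trans ?_
      rw [Category.assoc, Category.assoc, h, comp_zero, comp_zero]
    refine ⟨k, ?_, ?_⟩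
    · have hzero : (DerivedCategory.Q.map (mappingCocone.fst φ ≫ biprod.fst) ≫ k - 𝟙 _) ≫ T.mor₁ = 0 := by
        rw [Preadditive.sub_comp, Category.assoc, ← hk, sub_eq_zero, Category.id_comp]
        show _ ≫ x = DerivedCategory.Q.map (mappingCocone.fst φ)
        have h0 := Q_map_eq_zero_of_quotient _ (quotient_mappingCocone_fst_comp φ)
        have hQ : DerivedCategory.Q.map φ = (DerivedCategory.Q.map biprod.fst ≫ α -
            DerivedCategory.Q.map biprod.snd) ≫ DerivedCategory.Q.map s := by
          rw [Preadditive.sub_comp, Category.assoc, hαs, ← Functor.map_comp, ← Functor.map_comp,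
            ← Functor.map_sub]
          exact congrArg _ (biprod.hom_ext' _ _ (by simp [φ]) (by simp [φ]))
        rw [Functor.map_comp, hQ, ← Category.assoc, ← cancel_mono (inv (DerivedCategory.Q.map s)),
          Category.assoc, IsIso.hom_inv_id, Category.comp_id, zero_comp, Preadditive.comp_sub, sub_eq_zero] at h0
        calc DerivedCategory.Q.map (mappingCocone.fst φ ≫ biprod.fst) ≫ x
            = DerivedCategory.Q.map (mappingCocone.fst φ) ≫
              (DerivedCategory.Q.map (biprod.fst ≫ biprod.inl) +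
                DerivedCategory.Q.map (biprod.snd ≫ biprod.inr)) := by
              simp only [x, Functor.map_comp, Category.assoc, Preadditive.comp_add]
              rw [reassoc_of% h0]
          _ = _ := by rw [← Functor.map_add, biprod.total, CategoryTheory.Functor.map_id, Category.comp_id]
      obtain ⟨l, hl⟩ := Triangle.coyoneda_exact₁ T hT
        ((CategoryTheory.shiftFunctor _ (1 : ℤ)).map (DerivedCategory.Q.map (mappingCocone.fst φ ≫ biprod.fst) ≫ k - 𝟙 _))
        (by rw [← Functor.map_comp, hzero, Functor.map_zero])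
      rw [← sub_eq_zero]
      refine (CategoryTheory.shiftFunctor (DerivedCategory A) (1 : ℤ)).map_injective ?_
      rw [hl, h3, comp_zero, Functor.map_zero]
    · rw [Functor.map_comp, ← Category.assoc]
      show (k ≫ T.mor₁) ≫ _ = _
      rw [← hk]
      simp [x, ← Functor.map_comp]
  · have h0 := Q_map_eq_zero_of_quotient _ (quotient_mappingCocone_fst_comp φ)
    rw [← cancel_mono (DerivedCategory.Q.map s), Category.assoc, hαs, ← Functor.map_comp, ← Functor.map_comp,
      ← sub_eq_zero, ← Functor.map_sub]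
    refine Eq.trans (congrArg DerivedCategory.Q.map ?_) h0
    rw [show φ = biprod.fst ≫ g - biprod.snd ≫ s from by apply biprod.hom_ext' <;> simp [φ],
      Preadditive.comp_sub, Category.assoc, Category.assoc]

/-- A morphism of bounded below complexes which is zero in the derived category becomes null homotopic
after a quasi-isomorphism. -/
theorem exists_kill {E F : CochainComplex A ℤ} (a : ℤ) [E.IsStrictlyGE a] [F.IsStrictlyGE a]
    (γ : E ⟶ F) (hγ : DerivedCategory.Q.map γ = 0) :
    ∃ (C : CochainComplex A ℤ) (c : C ⟶ E), C.IsStrictlyGE (a - 1) ∧ QuasiIso c ∧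
      Nonempty (Homotopy (c ≫ γ) 0) := by
  have h : DerivedCategory.Qh.map ((q).map γ) = DerivedCategory.Qh.map 0 := by
    rw [Functor.map_zero, ← cancel_mono ((DerivedCategory.quotientCompQhIso A).hom.app _), zero_comp]
    refine ((DerivedCategory.quotientCompQhIso A).hom.naturality γ).trans ?_
    rw [hγ, comp_zero]
  obtain ⟨W, t, ht, hcomp⟩ := (MorphismProperty.map_eq_iff_postcomp DerivedCategory.Qh
    (HomotopyCategory.quasiIso A (ComplexShape.up ℤ)) _ _).1 h
  obtain ⟨W, rfl⟩ := HomotopyCategory.quotient_obj_surjective W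
  obtain ⟨t, rfl⟩ := (q).map_surjective t
  rw [HomotopyCategory.quotient_map_mem_quasiIso_iff] at ht
  obtain ⟨F'', t', hF'', hs⟩ := exists_truncated a t ht
  haveI := hF''
  let s := t ≫ t'
  have hz : Nonempty (Homotopy (γ ≫ s) 0) := by
    refine ⟨HomotopyCategory.homotopyOfEq _ _ ?_⟩
    simp only [s, Functor.map_comp]
    rw [reassoc_of% hcomp, zero_comp, Functor.map_zero]
  obtain ⟨z, hz2⟩ := HomComplex.Cochain.equivHomotopy _ _ hz.some
  rw [HomComplex.Cochain.ofHom_zero, add_zero] at hz2
  let u : E ⟶ mappingCocone s := mappingCocone.lift s γ (-z) (by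
    rw [HomComplex.δ_neg, hz2, neg_add_cancel])
  haveI := isStrictlyGE_mappingCocone s a
  haveI := isStrictlyGE_of_le (K := E) (a := a) (b := a - 1) (by omega)
  haveI := isStrictlyGE_of_le (K := mappingCocone s) (a := a) (b := a - 1) (by omega)
  refine ⟨mappingCocone u, mappingCocone.fst u, isStrictlyGE_mappingCocone u (a - 1), ?_,
    ⟨HomotopyCategory.homotopyOfEq _ _ ?_⟩⟩
  · rw [← DerivedCategory.isIso_Q_map_iff_quasiIso]
    have hzero : IsZero (DerivedCategory.Q.obj (mappingCocone s)) :=
      (Triangle.isZero₁_iff_isIso₂ _ (DerivedCategory.mappingCocone_triangle_distinguished s)).2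
        ((DerivedCategory.isIso_Q_map_iff_quasiIso _ _).2 hs)
    exact (Triangle.isZero₃_iff_isIso₁ _ (DerivedCategory.mappingCocone_triangle_distinguished u)).1 hzero
  · rw [show mappingCocone.fst u ≫ γ = (mappingCocone.fst u ≫ u) ≫ mappingCocone.fst s by simp [u],
      Functor.map_comp, quotient_mappingCocone_fst_comp, zero_comp, Functor.map_zero]

end Groth.Agent.ResPerf7
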