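import Groth.Agent.ResPerf7.Main
import Groth.Agent.ResPerf7.Fractions
import Groth.Agent.QCohEquiv7.Main
import Groth.Agent.S1009

/-! Perfect objects and their morphisms on schemes with the resolution property. -/

set_option autoImplicit false
set_option linter.style.haveILetI false
set_option backward.isDefEq.respectTransparency false
set_option backward.isDefEq.respectTransparency.types false
set_option maxHeartbeats 1000000

universe u

open CategoryTheory CategoryTheory.Limits AlgebraicGeometry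
open scoped ZeroObject

attribute [local instance] HasDerivedCategory.standard

noncomputable section

namespace Groth.Agent.ResPerf7

open Groth.Agent.KFlatLib Groth.Agent.QCohEquiv7

variable {X : Scheme.{u}}

/-- A complex of quasi-coherent modules as a complex in `QC X`. -/
@[simps]
def liftQC (K : CochainComplex X.Modules ℤ) (hq : ∀ n, Coh.IsQCoh (K.X n)) : CochainComplex (QC X) ℤ where
  X m := ⟨K.X m, hq m⟩
  d i j := ObjectProperty.homMk (K.d i j)
  shape i j hij := ObjectProperty.hom_ext _ (K.shape i j hij)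
  d_comp_d' i j k _ _ := ObjectProperty.hom_ext _ (K.d_comp_d i j k)

/-- The inclusion on complexes. -/
abbrev incC (X : Scheme.{u}) : CochainComplex (QC X) ℤ ⥤ CochainComplex X.Modules ℤ :=
  (inc X).mapHomologicalComplex (ComplexShape.up ℤ)

/-- Lifting and including. -/
def liftQCIso (K : CochainComplex X.Modules ℤ) (hq : ∀ n, Coh.IsQCoh (K.X n)) :
    (incC X).obj (liftQC K hq) ≅ K :=
  HomologicalComplex.Hom.isoOfComponents (fun _ => Iso.refl _) (by
    intro i j _
    simp [liftQC])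

lemma isStrictlyGE_liftQC {K : CochainComplex X.Modules ℤ} (hq : ∀ n, Coh.IsQCoh (K.X n)) {a : ℤ}
    (h : ∀ n, n < a → IsZero (K.X n)) : (liftQC K hq).IsStrictlyGE a :=
  (CochainComplex.isStrictlyGE_iff _ a).2 fun i hi => by
    rw [IsZero.iff_id_eq_zero]
    exact ObjectProperty.hom_ext _ ((h i hi).eq_of_src _ _)

lemma incC_isZero {K : CochainComplex (QC X) ℤ} (a : ℤ) [K.IsStrictlyGE a] (n : ℤ) (hn : n < a) :
    IsZero (((incC X).obj K).X n) :=
  (inc X).map_isZero (K.isZero_of_isStrictlyGE a n hn)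

variable [CompactSpace X] [QuasiSeparatedSpace X] (hX : PerfAux.HasResolutionProperty X)

include hX

omit [QuasiSeparatedSpace X] hX in
/-- Resolving a bounded below complex of quasi-coherent modules which is perfect. -/
lemma exists_resolution' [QuasiSeparatedSpace X] (hX : PerfAux.HasResolutionProperty X)
    (C : CochainComplex (QC X) ℤ) (a : ℤ) [C.IsStrictlyGE a]
    (hC : DCoh.IsPerfect (DCoh.toD X ((incC X).obj C))) :
    ∃ (G : CochainComplex X.Modules ℤ) (φ : G ⟶ (incC X).obj C), DCoh.IsStrictlyPerfect G ∧ QuasiIso φ :=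
  exists_strictlyPerfect_quasiIso hX _ ⟨a, fun n hn => incC_isZero a n hn⟩ (fun n => (C.X n).property) hC

theorem affineDiagonal (U V : X.Opens) (hU : IsAffineOpen U) (hV : IsAffineOpen V) : IsAffineOpen (U ⊓ V) :=
  S1009.result X hX U V hU hV

/-- Perfect objects are strictly perfect. -/
theorem exists_strictlyPerfect_iso (K : DCoh.D X) (hK : DCoh.IsPerfect K) :
    ∃ E : CochainComplex X.Modules ℤ, DCoh.IsStrictlyPerfect E ∧ Nonempty (DCoh.toD X E ≅ K) := by
  obtain ⟨α, β, hrep⟩ := exists_uniform_rep hK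
  obtain ⟨-, -, hess⟩ := full_faithful_incD X (affineDiagonal hX)
  obtain ⟨M, ⟨e⟩⟩ := (hess K).1 (PerfGen7.isQCohD_of_isPerfect hK)
  haveI hM : M.IsGE α := CohD7.isGE_of_map (inc X) M α ((DerivedCategory.isGE_iff _ α).2 fun n hn =>
    (isZero_hd_of_reps hrep n (Or.inl hn)).of_iso ((DerivedCategory.homologyFunctor X.Modules n).mapIso e))
  obtain ⟨C, hC, ⟨eM⟩⟩ := M.exists_iso_Q_obj_of_isGE α
  let eC : DCoh.toD X ((incC X).obj C) ≅ K :=
    ((inc X).mapDerivedCategoryFactors.app C).symm ≪≫ (incD X).mapIso eM.symm ≪≫ e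
  haveI := hC
  obtain ⟨G, φ, hG, hφ⟩ := exists_resolution' hX C α
    ((isPerfect_iff _).2 (((isPerfect_iff _).1 hK).of_iso eC.symm))
  exact ⟨G, hG, ⟨@asIso _ _ _ _ (DerivedCategory.Q.map φ)
    ((DerivedCategory.isIso_Q_map_iff_quasiIso _ _).2 hφ) ≪≫ eC⟩⟩

lemma isPerfect_incC_of_quasiIso {E : CochainComplex X.Modules ℤ} (hE : DCoh.IsStrictlyPerfect E)
    {C : CochainComplex (QC X) ℤ} (c : (incC X).obj C ⟶ E) (hc : QuasiIso c) :
    DCoh.IsPerfect (DCoh.toD X ((incC X).obj C)) :=
  haveI := (DerivedCategory.isIso_Q_map_iff_quasiIso _ _).2 hc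
  (isPerfect_iff _).2 ((locSP_toD hE).of_iso (asIso (DerivedCategory.Q.map c)).symm)

/-- Roofs of strictly perfect complexes. -/
theorem exists_sp_roof (E F : CochainComplex X.Modules ℤ) (hE : DCoh.IsStrictlyPerfect E)
    (hF : DCoh.IsStrictlyPerfect F) (α : DCoh.toD X E ⟶ DCoh.toD X F) :
    ∃ (G : CochainComplex X.Modules ℤ) (g : G ⟶ E) (h : G ⟶ F), DCoh.IsStrictlyPerfect G ∧ QuasiIso g ∧
      DerivedCategory.Q.map g ≫ α = DerivedCategory.Q.map h := by
  obtain ⟨hfull, -, -⟩ := full_faithful_incD X (affineDiagonal hX)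
  have hq : ∀ {P : CochainComplex X.Modules ℤ}, DCoh.IsStrictlyPerfect P → ∀ n, Coh.IsQCoh (P.X n) :=
    fun hP n => QCoh.isQCoh_of_isFinLocFree (hP.2 n)
  obtain ⟨⟨a₁, b₁, h₁⟩, -⟩ := id hE
  obtain ⟨⟨a₂, b₂, h₂⟩, -⟩ := id hF
  let E' := liftQC E (hq hE)
  let F' := liftQC F (hq hF)
  haveI : E'.IsStrictlyGE (min a₁ a₂) := isStrictlyGE_liftQC _ fun n hn => h₁ n (Or.inl (by omega))
  haveI : F'.IsStrictlyGE (min a₁ a₂) := isStrictlyGE_liftQC _ fun n hn => h₂ n (Or.inl (by omega))
  let nE : (incD X).obj (DerivedCategory.Q.obj E') ≅ DCoh.toD X E :=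
    (inc X).mapDerivedCategoryFactors.app E' ≪≫ DerivedCategory.Q.mapIso (liftQCIso E (hq hE))
  let nF : (incD X).obj (DerivedCategory.Q.obj F') ≅ DCoh.toD X F :=
    (inc X).mapDerivedCategoryFactors.app F' ≪≫ DerivedCategory.Q.mapIso (liftQCIso F (hq hF))
  obtain ⟨α', hα'⟩ := (incD X).map_surjective (nE.hom ≫ α ≫ nF.inv)
  obtain ⟨C, c, h, hC, hc, hch⟩ := exists_roof (min a₁ a₂) α'
  haveI := hC
  haveI := hc
  let c' := (incC X).map c ≫ (liftQCIso E (hq hE)).hom
  let h' := (incC X).map h ≫ (liftQCIso F (hq hF)).hom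
  haveI hc0 : QuasiIso ((incC X).map c) :=
    (HomologicalComplex.quasiIso_map_iff_of_preservesHomology c (inc X)).2 hc
  have hc' : QuasiIso c' := inferInstance
  obtain ⟨G, φ, hG, hφ⟩ := exists_resolution' hX C (min a₁ a₂) (isPerfect_incC_of_quasiIso hX hE c' hc')
  haveI := hφ
  refine ⟨G, φ ≫ c', φ ≫ h', hG, inferInstance, ?_⟩
  have key : DerivedCategory.Q.map c' ≫ α = DerivedCategory.Q.map h' := by
    have hnat : ∀ {W : CochainComplex X.Modules ℤ} (hW : ∀ n, Coh.IsQCoh (W.X n)) (f : C ⟶ liftQC W hW),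
        DerivedCategory.Q.map ((incC X).map f ≫ (liftQCIso W hW).hom) =
          (inc X).mapDerivedCategoryFactors.inv.app C ≫ (incD X).map (DerivedCategory.Q.map f) ≫
            (inc X).mapDerivedCategoryFactors.hom.app (liftQC W hW) ≫
              DerivedCategory.Q.map (liftQCIso W hW).hom := by
      intro W hW f
      rw [(inc X).mapDerivedCategoryFactors_hom_naturality_assoc, Iso.inv_hom_id_app_assoc, Functor.map_comp]
    rw [hnat (hq hE) c, hnat (hq hF) h, ← hch, Functor.map_comp, hα']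
    simp only [nE, nF, E', F', Iso.trans_hom, Iso.trans_inv, Iso.app_hom, Iso.app_inv, Functor.mapIso_hom,
      Functor.mapIso_inv, Category.assoc, Iso.inv_hom_id_app_assoc]
    rw [← Functor.map_comp, Iso.inv_hom_id, CategoryTheory.Functor.map_id]
    erw [Category.comp_id]
  rw [Functor.map_comp, Category.assoc, key, ← Functor.map_comp]

/-- Equal morphisms become homotopic after a quasi-isomorphism. -/
theorem exists_sp_homotopy (E F : CochainComplex X.Modules ℤ) (hE : DCoh.IsStrictlyPerfect E)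
    (hF : DCoh.IsStrictlyPerfect F) (α β : E ⟶ F) (hαβ : DerivedCategory.Q.map α = DerivedCategory.Q.map β) :
    ∃ (G : CochainComplex X.Modules ℤ) (γ : G ⟶ E), DCoh.IsStrictlyPerfect G ∧ QuasiIso γ ∧
      Nonempty (Homotopy (γ ≫ α) (γ ≫ β)) := by
  obtain ⟨-, hfaith, -⟩ := full_faithful_incD X (affineDiagonal hX)
  have hq : ∀ {P : CochainComplex X.Modules ℤ}, DCoh.IsStrictlyPerfect P → ∀ n, Coh.IsQCoh (P.X n) :=
    fun hP n => QCoh.isQCoh_of_isFinLocFree (hP.2 n)
  obtain ⟨⟨a₁, b₁, h₁⟩, -⟩ := id hE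
  obtain ⟨⟨a₂, b₂, h₂⟩, -⟩ := id hF
  let E' := liftQC E (hq hE)
  let F' := liftQC F (hq hF)
  haveI : E'.IsStrictlyGE (min a₁ a₂) := isStrictlyGE_liftQC _ fun n hn => h₁ n (Or.inl (by omega))
  haveI : F'.IsStrictlyGE (min a₁ a₂) := isStrictlyGE_liftQC _ fun n hn => h₂ n (Or.inl (by omega))
  let eE := liftQCIso E (hq hE)
  let eF := liftQCIso F (hq hF)
  obtain ⟨γ, hγ⟩ := CohD7.map_surjective (inc X) (M := E') (N := F') (eE.hom ≫ (α - β) ≫ eF.inv)
  have h0 : DerivedCategory.Q.map γ = 0 := by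
    refine (incD X).map_injective ?_
    rw [Functor.map_zero, ← cancel_mono ((inc X).mapDerivedCategoryFactors.hom.app F'),
      (inc X).mapDerivedCategoryFactors_hom_naturality, hγ, zero_comp, Functor.map_comp, Functor.map_comp,
      Functor.map_sub, hαβ, sub_self, zero_comp, comp_zero, comp_zero]
  obtain ⟨C, c, hC, hc, ⟨H⟩⟩ := exists_kill (min a₁ a₂) γ h0
  haveI := hC
  haveI := hc
  let c' := (incC X).map c ≫ eE.hom
  haveI hc0 : QuasiIso ((incC X).map c) :=
    (HomologicalComplex.quasiIso_map_iff_of_preservesHomology c (inc X)).2 hc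
  have hc' : QuasiIso c' := inferInstance
  obtain ⟨G, φ, hG, hφ⟩ := exists_resolution' hX C (min a₁ a₂ - 1) (isPerfect_incC_of_quasiIso hX hE c' hc')
  haveI := hφ
  refine ⟨G, φ ≫ c', hG, inferInstance, ⟨HomotopyCategory.homotopyOfEq _ _ ?_⟩⟩
  rw [← sub_eq_zero, ← Functor.map_sub, ← Preadditive.comp_sub]
  have h1 := HomotopyCategory.eq_of_homotopy _ _ ((inc X).mapHomotopy H)
  rw [Functor.map_zero, Functor.map_comp, hγ, Functor.map_zero, Functor.map_comp, Functor.map_comp,
    Functor.map_comp] at h1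
  have h2 : (HomotopyCategory.quotient X.Modules (ComplexShape.up ℤ)).map c' ≫
      (HomotopyCategory.quotient X.Modules (ComplexShape.up ℤ)).map (α - β) = 0 := by
    rw [← cancel_mono ((HomotopyCategory.quotient X.Modules (ComplexShape.up ℤ)).map eF.inv), zero_comp]
    simp only [c', Functor.map_comp, Category.assoc]
    exact h1
  rw [Functor.map_comp, Functor.map_comp, Category.assoc, h2, comp_zero]

end Groth.Agent.ResPerf7
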