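import Groth.Agent.ResPerf7.Apply

/-! Perfect objects as a localization of strictly perfect complexes. -/

set_option autoImplicit false
set_option linter.style.haveILetI false
set_option backward.isDefEq.respectTransparency false
set_option backward.isDefEq.respectTransparency.types false
set_option maxHeartbeats 1000000

universe u

open CategoryTheory CategoryTheory.Limits AlgebraicGeometry
open scoped ZeroObject

attribute [local instance] HasDerivedCategory.standard

noncomputable section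

namespace Groth.Agent.ResPerf7

variable {X : Scheme.{u}}

/-- Strictly perfect complexes. -/
abbrev spProp (X : Scheme.{u}) : ObjectProperty (CochainComplex X.Modules ℤ) :=
  fun E : CochainComplex X.Modules ℤ => DCoh.IsStrictlyPerfect E

/-- The category of strictly perfect complexes. -/
abbrev SPC (X : Scheme.{u}) := ObjectProperty.FullSubcategory (spProp X)

/-- Their quasi-isomorphisms. -/
abbrev spW (X : Scheme.{u}) : MorphismProperty (SPC X) :=
  (HomologicalComplex.quasiIso X.Modules (ComplexShape.up ℤ)).inverseImage (ObjectProperty.ι (spProp X))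

/-- The cylinder of a strictly perfect complex is strictly perfect. -/
lemma isStrictlyPerfect_cylinder {K : CochainComplex X.Modules ℤ} (hK : DCoh.IsStrictlyPerfect K) :
    DCoh.IsStrictlyPerfect (HomologicalComplex.cylinder K) := by
  obtain ⟨⟨a, b, h⟩, hl⟩ := hK
  let e : ∀ i : ℤ, (HomologicalComplex.cylinder K).X i ≅ K.X (i + 1) ⊞ (K ⊞ K).X i := fun i =>
    HomologicalComplex.homotopyCofiber.XIsoBiprod (biprod.lift (𝟙 K) (-𝟙 K)) i (i + 1) rfl
  let e' : ∀ i : ℤ, (K ⊞ K).X i ≅ K.X i ⊞ K.X i := fun i =>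
    (HomologicalComplex.eval X.Modules (ComplexShape.up ℤ) i).mapBiprod K K
  refine ⟨⟨a - 1, b, fun i hi => ?_⟩, fun i => ?_⟩
  · exact ((biprod_isZero_iff _ _).2 ⟨h _ (by omega),
      ((biprod_isZero_iff _ _).2 ⟨h _ (by omega), h _ (by omega)⟩).of_iso (e' i)⟩).of_iso (e i)
  · exact H23.PullPush.isFinLocFree_of_iso (e i).symm
      (isFinLocFree_biprod' (hl _) (H23.PullPush.isFinLocFree_of_iso (e' i).symm (isFinLocFree_biprod' (hl _) (hl _))))

/-- Homotopic maps become equal after inverting quasi-isomorphisms. -/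
lemma Q_map_eq_of_homotopy {E F : SPC X} {f g : E ⟶ F} (h : Homotopy f.hom g.hom) :
    (spW X).Q.map f = (spW X).Q.map g := by
  let C : SPC X := ⟨HomologicalComplex.cylinder E.obj, isStrictlyPerfect_cylinder E.property⟩
  let i₀ : E ⟶ C := ObjectProperty.homMk (HomologicalComplex.cylinder.ι₀ E.obj)
  let i₁ : E ⟶ C := ObjectProperty.homMk (HomologicalComplex.cylinder.ι₁ E.obj)
  let p : C ⟶ E := ObjectProperty.homMk (HomologicalComplex.cylinder.π E.obj)
  let d : C ⟶ F := ObjectProperty.homMk (HomologicalComplex.cylinder.desc f.hom g.hom h)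
  have h₀ : i₀ ≫ p = 𝟙 E := ObjectProperty.hom_ext _ (HomologicalComplex.cylinder.ι₀_π _)
  have h₁ : i₁ ≫ p = 𝟙 E := ObjectProperty.hom_ext _ (HomologicalComplex.cylinder.ι₁_π _)
  have hp : spW X p := homotopyEquivalences_le_quasiIso _ _ _
    ⟨HomologicalComplex.cylinder.homotopyEquiv E.obj (fun j => ⟨j - 1, by simp⟩), rfl⟩
  haveI := (spW X).Q_inverts p hp
  have hi : (spW X).Q.map i₀ = (spW X).Q.map i₁ := by
    rw [← cancel_mono ((spW X).Q.map p), ← Functor.map_comp, ← Functor.map_comp, h₀, h₁]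
  rw [show f = i₀ ≫ d from ObjectProperty.hom_ext _ (HomologicalComplex.cylinder.ι₀_desc _ _ h).symm,
    show g = i₁ ≫ d from ObjectProperty.hom_ext _ (HomologicalComplex.cylinder.ι₁_desc _ _ h).symm,
    Functor.map_comp, Functor.map_comp, hi]

/-- A morphism of the localized category represented by a roof. -/
def HasRoof (E F : SPC X) (p : (spW X).Q.obj E ⟶ (spW X).Q.obj F) : Prop :=
  ∃ (G : SPC X) (g : G ⟶ E) (h : G ⟶ F), spW X g ∧ (spW X).Q.map g ≫ p = (spW X).Q.map h

variable [CompactSpace X] [QuasiSeparatedSpace X]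

lemma Q_map_eq_of_toD (hX : PerfAux.HasResolutionProperty X) {E F : SPC X} {f g : E ⟶ F}
    (h : DerivedCategory.Q.map f.hom = DerivedCategory.Q.map g.hom) :
    (spW X).Q.map f = (spW X).Q.map g := by
  obtain ⟨G, γ, hG, hγ, ⟨H⟩⟩ := exists_sp_homotopy hX E.obj F.obj E.property F.property f.hom g.hom h
  let G' : SPC X := ⟨G, hG⟩
  let c : G' ⟶ E := ObjectProperty.homMk γ
  haveI := (spW X).Q_inverts c hγ
  rw [← cancel_epi ((spW X).Q.map c), ← Functor.map_comp, ← Functor.map_comp]
  exact Q_map_eq_of_homotopy H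

lemma exists_square (hX : PerfAux.HasResolutionProperty X) {E E' F : SPC X} (f : E ⟶ F) (w : E' ⟶ F)
    (hw : spW X w) : ∃ (G : SPC X) (g : G ⟶ E) (k : G ⟶ E'), spW X g ∧
      (spW X).Q.map g ≫ (spW X).Q.map f = (spW X).Q.map k ≫ (spW X).Q.map w := by
  haveI : IsIso (DerivedCategory.Q.map w.hom) := (DerivedCategory.isIso_Q_map_iff_quasiIso _ _).2 hw
  obtain ⟨G, g, k, hG, hg, hgk⟩ := exists_sp_roof hX E.obj E'.obj E.property E'.property
    (DerivedCategory.Q.map f.hom ≫ inv (DerivedCategory.Q.map w.hom))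
  let G' : SPC X := ⟨G, hG⟩
  refine ⟨G', ObjectProperty.homMk g, ObjectProperty.homMk k, hg, ?_⟩
  rw [← Functor.map_comp, ← Functor.map_comp]
  refine Q_map_eq_of_toD hX ?_
  show DerivedCategory.Q.map (g ≫ f.hom) = DerivedCategory.Q.map (k ≫ w.hom)
  rw [Functor.map_comp, Functor.map_comp, ← hgk]
  simp

lemma hasRoof (hX : PerfAux.HasResolutionProperty X) (E F : SPC X)
    (p : (spW X).Q.obj E ⟶ (spW X).Q.obj F) : HasRoof E F p := by
  let P : MorphismProperty (spW X).Localization := fun A B q => HasRoof A.as.obj B.as.obj q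
  haveI : P.IsStableUnderComposition := ⟨by
    rintro A B C q r ⟨G, g, h, hg, e⟩ ⟨G', g', h', hg', e'⟩
    obtain ⟨G'', g'', k, hg'', e''⟩ := exists_square hX h g' hg'
    refine ⟨G'', g'' ≫ g, k ≫ h', ?_, ?_⟩
    · show QuasiIso (g''.hom ≫ g.hom)
      haveI : QuasiIso g''.hom := hg''
      haveI : QuasiIso g.hom := hg
      infer_instance
    · rw [Functor.map_comp, Functor.map_comp, ← e', ← Category.assoc ((spW X).Q.map k)]
      erw [← e'', Category.assoc, Category.assoc]
      exact congrArg (_ ≫ ·) ((Category.assoc _ _ _).symm.trans (congrArg (· ≫ r) e))⟩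
  have hP : P = ⊤ := by
    refine Localization.Construction.morphismProperty_eq_top P (fun A B f => ?_) (fun A B w hw => ?_)
    · refine ⟨A, 𝟙 A, f, inferInstanceAs (QuasiIso (𝟙 A.obj)), ?_⟩
      rw [CategoryTheory.Functor.map_id]
      exact Category.id_comp _
    · refine ⟨A, w, 𝟙 A, hw, ?_⟩
      rw [CategoryTheory.Functor.map_id]
      exact (Localization.Construction.wIso w hw).hom_inv_id
  exact (hP ▸ trivial : P p)

/-- The functor to perfect objects is a localization. -/
theorem isLocalization_sp (hX : PerfAux.HasResolutionProperty X)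
    (h : ∀ E : SPC X, DCoh.IsPerfect ((ObjectProperty.ι (spProp X) ⋙ DerivedCategory.Q).obj E)) :
    (ObjectProperty.lift (fun K : DCoh.D X => DCoh.IsPerfect K)
      (ObjectProperty.ι (spProp X) ⋙ DerivedCategory.Q) h).IsLocalization (spW X) := by
  set L := ObjectProperty.lift (fun K : DCoh.D X => DCoh.IsPerfect K)
      (ObjectProperty.ι (spProp X) ⋙ DerivedCategory.Q) h with hL
  have hinv : (spW X).IsInvertedBy L := fun A B f hf => by
    haveI : IsIso (DerivedCategory.Q.map f.hom) := (DerivedCategory.isIso_Q_map_iff_quasiIso _ _).2 hf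
    haveI : IsIso ((ObjectProperty.ι (fun K : DCoh.D X => DCoh.IsPerfect K)).map (L.map f)) := this
    exact isIso_of_fully_faithful (ObjectProperty.ι (fun K : DCoh.D X => DCoh.IsPerfect K)) (L.map f)
  let Φ := Localization.Construction.lift L hinv
  have hΦ : ∀ {A B : SPC X} (f : A ⟶ B), (Φ.map ((spW X).Q.map f)).hom = DerivedCategory.Q.map f.hom := by
    intro A B f
    simp [Φ, Localization.Construction.lift, MorphismProperty.Q]
    erw [Quotient.lift_map_functor_map]
    simp [Localization.Construction.liftToPathCategory]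
    rfl
  refine ⟨hinv, ?_⟩
  haveI : Φ.Faithful := ⟨fun {A B} p q hpq => by
    obtain ⟨G, g, k, hg, e⟩ := hasRoof hX A.as.obj B.as.obj p
    haveI := (spW X).Q_inverts g hg
    obtain ⟨G', g', l, hg', e'⟩ := hasRoof hX G B.as.obj ((spW X).Q.map g ≫ q)
    haveI := (spW X).Q_inverts g' hg'
    refine (cancel_epi ((spW X).Q.map g)).1 ?_
    refine (cancel_epi ((spW X).Q.map g')).1 ?_
    rw [e', e, ← Functor.map_comp]
    refine Q_map_eq_of_toD hX ?_
    rw [← hΦ, ← hΦ, Functor.map_comp, ← e', ← e]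
    simp only [Functor.map_comp]
    exact congrArg (fun z => (Φ.map ((spW X).Q.map g') ≫ Φ.map ((spW X).Q.map g) ≫ z).hom) hpq⟩
  haveI : Φ.Full := ⟨fun {A B} α => by
    obtain ⟨G, g, k, hG, hg, e⟩ := exists_sp_roof hX A.as.obj.obj B.as.obj.obj A.as.obj.property
      B.as.obj.property α.hom
    let g' : (⟨G, hG⟩ : SPC X) ⟶ A.as.obj := ObjectProperty.homMk g
    let k' : (⟨G, hG⟩ : SPC X) ⟶ B.as.obj := ObjectProperty.homMk k
    haveI := (spW X).Q_inverts g' hg
    refine ⟨inv ((spW X).Q.map g') ≫ (spW X).Q.map k', ?_⟩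
    refine (cancel_epi (Φ.map ((spW X).Q.map g'))).1 ?_
    rw [← Functor.map_comp, IsIso.hom_inv_id_assoc]
    refine ObjectProperty.hom_ext _ ?_
    rw [hΦ]
    show DerivedCategory.Q.map k = (Φ.map ((spW X).Q.map g')).hom ≫ α.hom
    rw [hΦ]
    exact e.symm⟩
  haveI : Φ.EssSurj := ⟨fun K => by
    obtain ⟨E, hE, ⟨e⟩⟩ := exists_strictlyPerfect_iso hX K.obj K.property
    exact ⟨(spW X).Q.obj ⟨E, hE⟩, ⟨(ObjectProperty.fullyFaithfulι _).preimageIso e⟩⟩⟩
  exact Functor.IsEquivalence.mk

end Groth.Agent.ResPerf7
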