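import Groth.Agent.PerfGen7.LeftRes

/-! Partial versions of the homology lemmas for extensions. -/

set_option linter.style.haveILetI false
set_option backward.isDefEq.respectTransparency false
set_option backward.defeqAttrib.useBackward true

universe v u

open CategoryTheory CategoryTheory.Limits HomologicalComplex Groth.Agent.PerfGen7.LeftRes

namespace Groth.Agent.ResPerf7

variable {A : Type u} [Category.{v} A] [Abelian A]
variable {Q L C' : CochainComplex A ℤ} (f : Q ⟶ L) (v : C' ⟶ CochainComplex.mappingCone f)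

lemma epi_homologyMap_of (i : ℤ) [Epi (homologyMap v i)] : Epi (homologyMap (Rπ f v) i) := by
  rw [epi_homologyMap_iff_up_to_refinements (Rπ f v) (i - 1) i (i + 1) (by simp) (by simp)]
  intro T y hy
  have hv : Epi (homologyMap v i) := inferInstance
  rw [epi_homologyMap_iff_up_to_refinements v (i - 1) i (i + 1) (by simp) (by simp)] at hv
  obtain ⟨T', π, hπ, c, hc, e, he⟩ := hv (y ≫ (CochainComplex.mappingCone.inr f).f i)
    (by rw [Category.assoc, CochainComplex.mappingCone.inr_f_d, reassoc_of% hy, zero_comp])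
  have he₁ := congrArg (· ≫ (CochainComplex.mappingCone.fst f).1.v i (i + 1) rfl) he
  have he₂ := congrArg (· ≫ (CochainComplex.mappingCone.snd f).v i i (add_zero i)) he
  simp only [Category.assoc, Preadditive.add_comp, CochainComplex.mappingCone.inr_f_fst_v,
    CochainComplex.mappingCone.inr_f_snd_v, comp_zero, Category.comp_id,
    CochainComplex.mappingCone.d_fst_v f (i - 1) i (i + 1) (by omega) rfl,
    CochainComplex.mappingCone.d_snd_v f (i - 1) i (by omega),
    Preadditive.comp_add, Preadditive.comp_neg, Preadditive.neg_comp] at he₁ he₂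
  set eq := e ≫ (CochainComplex.mappingCone.fst f).1.v (i - 1) i (by omega) with heq
  set el := e ≫ (CochainComplex.mappingCone.snd f).v (i - 1) (i - 1) (add_zero _) with hel
  refine ⟨T', π, hπ, (biprod.lift eq c : T' ⟶ Q.X i ⊞ C'.X i), ?_, el, ?_⟩
  · refine (lift_R_d f v rfl eq c).trans ((lift_eq_zero_iff _ _).2 ⟨?_, hc⟩)
    simp only [q1, heq, Category.assoc] at he₁ ⊢
    linear_combination (norm := abel) he₁
  · refine Eq.trans ?_ (congrArg (· + el ≫ L.d (i - 1) i) (lift_Rπ f v i eq c)).symm
    simp only [l1, heq, hel, Category.assoc] at he₂ ⊢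
    linear_combination (norm := abel) he₂

lemma mono_homologyMap_of (i : ℤ) [Mono (homologyMap v i)] [Epi (homologyMap v (i - 1))] : Mono (homologyMap (Rπ f v) i) := by
  rw [mono_homologyMap_iff_up_to_refinements (Rπ f v) (i - 1) i (i + 1) (by simp) (by simp)]
  intro T x hx m hm
  change T ⟶ Q.X i ⊞ C'.X i at x
  obtain ⟨q, c, rfl⟩ : ∃ q c, x = biprod.lift q c :=
    ⟨x ≫ biprod.fst, x ≫ biprod.snd, by apply biprod.hom_ext <;> simp⟩
  obtain ⟨hq, hc⟩ := (lift_eq_zero_iff _ _).1 ((lift_R_d f v rfl q c).symm.trans hx)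
  replace hm : q ≫ f.f i + c ≫ l1 f v i = m ≫ L.d (i - 1) i := (lift_Rπ f v i q c).symm.trans hm
  let z : T ⟶ (CochainComplex.mappingCone f).X (i - 1) :=
    -q ≫ (CochainComplex.mappingCone.inl f).v i (i - 1) (by omega) +
      m ≫ (CochainComplex.mappingCone.inr f).f (i - 1)
  have hz : c ≫ v.f i = z ≫ (CochainComplex.mappingCone f).d (i - 1) i := by
    apply CochainComplex.mappingCone.ext_to f i (i + 1) rfl
    · simp [z, CochainComplex.mappingCone.d_fst_v f (i - 1) i (i + 1) (by omega) rfl]
      simp only [q1] at hq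
      linear_combination (norm := abel) -hq
    · simp [z, CochainComplex.mappingCone.d_snd_v f (i - 1) i (by omega)]
      simp only [l1] at hm
      linear_combination (norm := abel) hm
  have hv : Mono (homologyMap v i) := inferInstance
  rw [mono_homologyMap_iff_up_to_refinements v (i - 1) i (i + 1) (by simp) (by simp)] at hv
  obtain ⟨T₁, π, hπ, c', hc'⟩ := hv c hc z hz
  have hv' : Epi (homologyMap v (i - 1)) := inferInstance
  rw [epi_homologyMap_iff_up_to_refinements v (i - 2) (i - 1) i (by simp; omega) (by simp)] at hv'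
  obtain ⟨T₂, π', hπ', c'', hc'', e, he⟩ := hv' (c' ≫ v.f (i - 1) - π ≫ z) (by
    rw [Preadditive.sub_comp, Category.assoc, v.comm, ← reassoc_of% hc', Category.assoc, ← hz,
      sub_self])
  let c₀ := π' ≫ c' - c''
  have hc₀ : c₀ ≫ C'.d (i - 1) i = π' ≫ π ≫ c := by simp [c₀, hc'', hc']
  have hq₀ : c₀ ≫ q1 f v (i - 1) i (by omega) = -(π' ≫ π ≫ q) -
      (e ≫ (CochainComplex.mappingCone.fst f).1.v (i - 2) (i - 1) (by omega)) ≫ Q.d (i - 1) i := by
    have := congrArg (· ≫ (CochainComplex.mappingCone.fst f).1.v (i - 1) i (by omega)) he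
    simp [z, CochainComplex.mappingCone.d_fst_v f (i - 2) (i - 1) i (by omega) (by omega)] at this
    simp [c₀, q1]
    linear_combination (norm := abel) this
  refine ⟨T₂, π' ≫ π, epi_comp _ _, (biprod.lift
    (-(e ≫ (CochainComplex.mappingCone.fst f).1.v (i - 2) (i - 1) (by omega))) c₀ :
      T₂ ⟶ Q.X (i - 1) ⊞ C'.X (i - 1)), ?_⟩
  refine Eq.trans ?_ (lift_R_d f v (show i - 1 + 1 = i by omega) _ c₀).symm
  change (π' ≫ π) ≫ (biprod.lift q c : T ⟶ Q.X i ⊞ C'.X i) = _
  apply biprod.hom_ext
  · simp [hq₀]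
    abel
  · simp [hc₀]

end Groth.Agent.ResPerf7
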